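import Groth.Agent.S0386
import Groth.Agent.Ega43.CMOpen
import Groth.Agent.Flat2D.FiberStalk

/-!
# Openness of "flat at x and the fibre through x has P at x" from the flat case

For a property `P` of rings invariant under isomorphism, the set of points `x` at which `f` is flat and
the local ring of the fibre at `x` has `P` is open once this is known for flat morphisms.
-/

set_option autoImplicit false
universe u
open CategoryTheory AlgebraicGeometry IsLocalRing

namespace K127.FlatLocus

open Groth.Agent Groth.Agent.Flat2D.FiberStalk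

variable {U X Y : Scheme.{u}}

/-- The local ring of the fibre does not change under an open immersion into the source. -/
theorem nonempty_fiberStalk_comp_equiv (j : U ⟶ X) [IsOpenImmersion j] (f : X ⟶ Y) (u : U) :
    Nonempty ((((j ≫ f).fiber ((j ≫ f) u)).presheaf.stalk ((j ≫ f).asFiber u)) ≃+*
      ((f.fiber (f (j u))).presheaf.stalk (f.asFiber (j u)))) := by
  obtain ⟨e1⟩ := nonempty_asFiber_stalkEquiv (j ≫ f) u
  obtain ⟨e2⟩ := nonempty_asFiber_stalkEquiv f (j u)
  let e := (asIso (j.stalkMap u)).commRingCatIsoToRingEquiv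
  have h : ((j ≫ f).stalkMap u).hom = (e : _ →+* _).comp (f.stalkMap (j u)).hom :=
    congrArg CommRingCat.Hom.hom (Scheme.Hom.stalkMap_comp j f u)
  have e3 : X.presheaf.stalk (j u) ⧸ fibreIdeal f (j u) ≃+*
      U.presheaf.stalk u ⧸ fibreIdeal (j ≫ f) u := by
    refine Ideal.quotientEquiv _ _ e ?_
    rw [fibreIdeal_def, fibreIdeal_def, h]
    exact (Ideal.map_map _ _).symm
  exact ⟨(e1.symm.trans e3.symm).trans e2⟩

theorem isOpen_flat_and (P : ∀ (R : Type u) [CommRing R], Prop)
    (hP : ∀ (R S : Type u) [CommRing R] [CommRing S], (R ≃+* S) → P R → P S)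
    (H : ∀ {Z : Scheme.{u}} (g : Z ⟶ Y) [Flat g] [LocallyOfFinitePresentation g],
      IsOpen {x : Z | P ((g.fiber (g.base x)).presheaf.stalk (g.asFiber x))})
    (f : X ⟶ Y) [LocallyOfFinitePresentation f] :
    IsOpen {x : X | (f.stalkMap x).hom.Flat ∧
      P ((f.fiber (f.base x)).presheaf.stalk (f.asFiber x))} := by
  let W : X.Opens := ⟨{x : X | (f.stalkMap x).hom.Flat}, S0386.result f⟩
  have hflat : Flat (W.ι ≫ f) := by
    refine Flat.of_stalkMap _ fun w ↦ ?_
    rw [Ega43.CMOpen.flat_stalkMap_comp_iff]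
    exact w.2
  have h := H (W.ι ≫ f)
  have h2 := W.ι.isOpenEmbedding.isOpenMap _ h
  convert h2 using 1
  ext x
  constructor
  · rintro ⟨hx, hPx⟩
    refine ⟨⟨x, hx⟩, ?_, rfl⟩
    obtain ⟨e⟩ := nonempty_fiberStalk_comp_equiv W.ι f ⟨x, hx⟩
    exact hP _ _ e.symm hPx
  · rintro ⟨w, hw, rfl⟩
    obtain ⟨e⟩ := nonempty_fiberStalk_comp_equiv W.ι f w
    exact ⟨w.2, hP _ _ e hw⟩

end K127.FlatLocus
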