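import Groth.Agent.Ega43.GeomAt
import Groth.Agent.Flat2D.FiberStalk

/-!
# `GeomAt` at points of a fibre
-/

set_option autoImplicit false
universe u

open AlgebraicGeometry CategoryTheory Limits Topology

namespace K127.GeomFib

open Groth.Agent Groth.Agent.Ega43.GeomAt

variable {P : ∀ (R : Type u) [CommRing R], Prop}

/-- For a point `w` of the fibre over `y`: the fibre is geometrically `P` at `w` iff `GeomAt P f (ι w)`. -/
theorem schFieldAt_fiber_iff (hP : IsoClosed P) {X Y : Scheme.{u}} (f : X ⟶ Y) (y : Y) (w : f.fiber y) :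
    SchFieldAt P (f.fiberToSpecResidueField y) w ↔ GeomAt P f (f.fiberι y w) := by
  have h2 : IsPullback (f.fiberι y) (f.fiberToSpecResidueField y) f
        (Y.fromSpecResidueField y) := IsPullback.of_hasPullback _ _
  have hfy : f (f.fiberι y w) = y := Flat2D.FiberStalk.apply_fiberι f y w
  exact schFieldAt_iff_of_isPullback (k := IsLocalRing.ResidueField (Y.presheaf.stalk y))
    hP h2 (f.fiberι y).isEmbedding.injective w (by
      intro K _ j t ht
      obtain ⟨⟨y', φ⟩, rfl⟩ := (Scheme.SpecToEquivOfField K Y).symm.surjective j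
      change (Spec.map φ ≫ Y.fromSpecResidueField y').base t = _ at ht
      rw [Scheme.Hom.comp_apply, Scheme.fromSpecResidueField_apply] at ht
      have ht' : y' = y := ht.trans hfy
      subst ht'
      exact ⟨φ.hom, rfl⟩)

end K127.GeomFib
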