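import Groth.Prelude.Def_FDesc
import Groth.Prelude.Def_MoreMor
import Mathlib.AlgebraicGeometry.ResidueField

/-!
# Geometric irreducibility of a subset of a fibre

`GeomIrr f y C`: for every field `K` and every morphism `Spec K ⟶ Y` with image `y`, the preimage of `C` in the
base change of `f` is irreducible.

* `geomIrr_iff`: comparison with the form used in the statements;
* `GeomIrr.baseChange`, `GeomIrr.of_baseChange`: invariance under base change.
-/

set_option autoImplicit false
open CategoryTheory AlgebraicGeometry Limits TopologicalSpace Topology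
universe u

namespace K127.GeomIrred

/-- Geometric irreducibility of (the trace on the fibre over `y` of) a subset `C` of `X`. -/
def GeomIrr {X Y : Scheme.{u}} (f : X ⟶ Y) (y : Y) (C : Set X) : Prop :=
  ∀ (K : Type u) [Field K] (Z : Scheme.{u}) (a : Z ⟶ X) (b : Z ⟶ Spec (CommRingCat.of K))
    (j : Spec (CommRingCat.of K) ⟶ Y), IsPullback a b f j → (∀ t, j t = y) → IsIrreducible (a ⁻¹' C)

variable {X Y : Scheme.{u}} {f : X ⟶ Y}

theorem GeomIrr.congr {y : Y} {C C' : Set X} (h : GeomIrr f y C)
    (hC : ∀ x, f x = y → (x ∈ C ↔ x ∈ C')) : GeomIrr f y C' := by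
  intro K _ Z a b j hZ hj
  have h1 := h K Z a b j hZ hj
  have h2 : a ⁻¹' C = a ⁻¹' C' := by
    ext z
    refine hC (a z) ?_
    rw [← Scheme.Hom.comp_apply, hZ.w, Scheme.Hom.comp_apply, hj]
  rwa [← h2]

theorem isIrreducible_preimage_of_iso {Z Z' : Scheme.{u}} (e : Z ≅ Z') {S : Set Z'}
    (hS : IsIrreducible S) : IsIrreducible (e.hom ⁻¹' S) := by
  have h1 := hS.image e.inv e.inv.continuous.continuousOn
  convert h1 using 1
  ext z
  constructor
  · intro hz
    refine ⟨e.hom z, hz, ?_⟩
    rw [← Scheme.Hom.comp_apply, e.hom_inv_id]; rfl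
  · rintro ⟨w, hw, rfl⟩
    have : e.hom (e.inv w) = w := by
      rw [← Scheme.Hom.comp_apply, e.inv_hom_id]; rfl
    rw [Set.mem_preimage, this]
    exact hw

/-- Comparison with the form used in the statements. -/
theorem geomIrr_iff (y : Y) (C : Set X) :
    GeomIrr f y C ↔
      ∀ (K : Type u) [Field K] [Algebra (IsLocalRing.ResidueField (Y.presheaf.stalk y)) K],
        IsIrreducible ((FBase.bcπ (f.fiberToSpecResidueField y) K ≫ f.fiberι y).base ⁻¹' C) := by
  have hpb : ∀ (K : Type u) [Field K] [Algebra (IsLocalRing.ResidueField (Y.presheaf.stalk y)) K],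
      IsPullback (FBase.bcπ (f.fiberToSpecResidueField y) K ≫ f.fiberι y)
        (FBase.bcStr (f.fiberToSpecResidueField y) K) f
        (Spec.map (CommRingCat.ofHom (algebraMap (IsLocalRing.ResidueField (Y.presheaf.stalk y)) K)) ≫
          Y.fromSpecResidueField y) := by
    intro K _ _
    have h1 : IsPullback (FBase.bcπ (f.fiberToSpecResidueField y) K)
        (FBase.bcStr (f.fiberToSpecResidueField y) K) (f.fiberToSpecResidueField y)
        (Spec.map (CommRingCat.ofHom
          (algebraMap (IsLocalRing.ResidueField (Y.presheaf.stalk y)) K))) :=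
      IsPullback.of_hasPullback _ _
    have h2 : IsPullback (f.fiberι y) (f.fiberToSpecResidueField y) f
        (Y.fromSpecResidueField y) := IsPullback.of_hasPullback _ _
    exact h1.paste_horiz h2
  constructor
  · intro h K _ _
    refine h K _ _ _ _ (hpb K) fun t => ?_
    exact Scheme.fromSpecResidueField_apply (X := Y) y _
  · intro h K _ Z a b j hZ hj
    obtain ⟨⟨y', φ⟩, rfl⟩ := (Scheme.SpecToEquivOfField K Y).symm.surjective j
    have hy' : y' = y := by
      have h1 := hj (IsLocalRing.closedPoint K)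
      change (Spec.map φ ≫ Y.fromSpecResidueField y') (IsLocalRing.closedPoint K) = y at h1
      rw [Scheme.Hom.comp_apply, Scheme.fromSpecResidueField_apply] at h1
      exact h1
    subst hy'
    let : Algebra (IsLocalRing.ResidueField (Y.presheaf.stalk y')) K := φ.hom.toAlgebra
    have h1 := h K
    have h2 := hpb K
    have hZ' : IsPullback a b f (Spec.map (CommRingCat.ofHom
        (algebraMap (IsLocalRing.ResidueField (Y.presheaf.stalk y')) K)) ≫
          Y.fromSpecResidueField y') := hZ
    let e := hZ'.isoIsPullback _ _ h2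
    have he : e.hom ≫ (FBase.bcπ (f.fiberToSpecResidueField y') K ≫ f.fiberι y') = a :=
      hZ'.isoIsPullback_hom_fst _ _ h2
    have h3 := isIrreducible_preimage_of_iso e h1
    have h4 : a ⁻¹' C = e.hom ⁻¹' ((FBase.bcπ (f.fiberToSpecResidueField y') K ≫
        f.fiberι y').base ⁻¹' C) := by
      rw [← he]
      rfl
    rw [h4]
    exact h3

theorem GeomIrr.baseChange {P T : Scheme.{u}} {p : P ⟶ X} {q : P ⟶ T} {φ : T ⟶ Y}
    (hP : IsPullback p q f φ) (t : T) {C : Set X} (h : GeomIrr f (φ t) C) :
    GeomIrr q t (p ⁻¹' C) := by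
  intro K _ Z a b j hZ hj
  have h1 := h K Z (a ≫ p) b (j ≫ φ) (hZ.paste_horiz hP) (fun s => by
    rw [Scheme.Hom.comp_apply, hj])
  exact h1

theorem GeomIrr.of_baseChange {P T : Scheme.{u}} {p : P ⟶ X} {q : P ⟶ T} {φ : T ⟶ Y}
    (hP : IsPullback p q f φ) (t : T) {C : Set X} (h : GeomIrr q t (p ⁻¹' C)) :
    GeomIrr f (φ t) C := by
  intro K _ Z a b j hZ hj
  obtain ⟨w, hw1, hw2⟩ := Scheme.Pullback.exists_preimage_pullback (f := j) (g := φ)
    (IsLocalRing.closedPoint K) t (hj _)
  let W := pullback j φ
  let M := W.residueField w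
  let m : Spec (CommRingCat.of M) ⟶ W := W.fromSpecResidueField w
  have hm : ∀ s, m s = w := fun s => Scheme.fromSpecResidueField_apply _ _
  let k : Spec (CommRingCat.of M) ⟶ Spec (CommRingCat.of K) := m ≫ pullback.fst j φ
  let l : Spec (CommRingCat.of M) ⟶ T := m ≫ pullback.snd j φ
  have hkl : k ≫ j = l ≫ φ := by
    simp only [k, l, Category.assoc, pullback.condition]
  have hl : ∀ s, l s = t := fun s => by
    simp only [l, Scheme.Hom.comp_apply, hm]
    exact hw2
  let ZM := pullback b k
  let r : ZM ⟶ Z := pullback.fst b k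
  let c : ZM ⟶ Spec (CommRingCat.of M) := pullback.snd b k
  have hr : IsPullback (r ≫ a) c f (k ≫ j) := (IsPullback.of_hasPullback b k).paste_horiz hZ
  let a' : ZM ⟶ P := hP.lift (r ≫ a) (c ≫ l) ((hr.w.trans (by rw [hkl])).trans (Category.assoc _ _ _).symm)
  have ha'1 : a' ≫ p = r ≫ a := hP.lift_fst _ _ _
  have ha'2 : a' ≫ q = c ≫ l := hP.lift_snd _ _ _
  have hZM : IsPullback a' c q l := by
    refine IsPullback.of_right ?_ ha'2 hP
    rw [ha'1, ← hkl]
    exact hr
  have h1 := h M ZM a' c l hZM hl
  have hsurj : Function.Surjective r := by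
    have h2 : Surjective k := ⟨fun s => ⟨IsLocalRing.closedPoint M,
      Subsingleton.elim (α := PrimeSpectrum K) _ _⟩⟩
    exact (inferInstance : Surjective r).surj
  have h3 : r ⁻¹' (a ⁻¹' C) = a' ⁻¹' (p ⁻¹' C) := by
    have h4 : (r ≫ a) ⁻¹' C = (a' ≫ p) ⁻¹' C := by rw [ha'1]
    exact h4
  have h5 := h1.image r r.continuous.continuousOn
  rw [← h3, Set.image_preimage_eq _ hsurj] at h5
  exact h5

/-- A geometrically irreducible subset of a fibre is irreducible. -/
theorem GeomIrr.isIrreducible {y : Y} {C : Set X} (h : GeomIrr f y C) (hC : C ⊆ f ⁻¹' {y}) :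
    IsIrreducible C := by
  have h1 := h (Y.residueField y) _ (f.fiberι y) (f.fiberToSpecResidueField y)
    (Y.fromSpecResidueField y) (IsPullback.of_hasPullback _ _)
    (fun t => Scheme.fromSpecResidueField_apply _ _)
  have h2 := h1.image _ (f.fiberι y).continuous.continuousOn
  rw [Set.image_preimage_eq_of_subset] at h2
  · exact h2
  · rw [f.range_fiberι]; exact hC

/-- The connected component of `g y` in the fibre and the union of these components. -/
theorem mem_sectionComponents_iff (g : Y ⟶ X) {y : Y} {x : X} (hx : f x = y) :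
    x ∈ connectedComponentIn (f ⁻¹' {y}) (g y) ↔ x ∈ MoreMor.sectionComponents f g := by
  subst hx
  exact Iff.rfl

theorem geomIrr_sectionComponents_iff (g : Y ⟶ X) (y : Y) :
    GeomIrr f y (connectedComponentIn (f ⁻¹' {y}) (g y)) ↔
      GeomIrr f y (MoreMor.sectionComponents f g) :=
  ⟨fun h => h.congr fun _ hx => mem_sectionComponents_iff g hx,
    fun h => h.congr fun _ hx => (mem_sectionComponents_iff g hx).symm⟩

end K127.GeomIrred
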