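import Groth.Agent.Ega4fib.H111.FibFormula
import Groth.Agent.Ega4fib.H172.FibDimBC
import Groth.Agent.CycA.ClosurePt

/-!
# Semicontinuity of the relative transcendence degree along a specialization
-/

set_option autoImplicit false
open CategoryTheory AlgebraicGeometry Limits TopologicalSpace Topology
universe u

namespace K127.RtdChev

open Groth.Agent Groth.Agent.CycB.RelDim Groth.Agent.Ega4fib.H172.FibDimBC

variable {X Y : Scheme.{u}} (f : X ⟶ Y) [LocallyOfFiniteType f]

/-- If `ξ ⤳ x` there is a generization `z` of `x` in the fibre through `x`, in the closure of `ξ`, whose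
transcendence degree is at least the one of `ξ`. -/
theorem exists_rtd_ge {ξ x : X} (h : ξ ⤳ x) :
    ∃ z : X, ξ ⤳ z ∧ z ⤳ x ∧ f z = f x ∧ rtd f ξ ≤ rtd f z := by
  obtain ⟨Z, i, hi, hZ, hiξ, hir⟩ := CycA.ClosurePt.exists_closure_subscheme ξ
  obtain ⟨t, rfl⟩ : x ∈ Set.range i := by rw [hir]; exact h.mem_closure
  have hrtd : ∀ w : Z, rtd (i ≫ f) w = rtd f (i w) := by
    intro w
    rw [rtd_comp, rtd_eq_zero_of_isPreimmersion i, add_zero]
  obtain ⟨e, he⟩ := Cardinal.lt_aleph0.mp (rtd_lt_aleph0 (i ≫ f) (genericPoint Z))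
  have h1 := Ega4fib.H111.FibFormula.rtd_le_fibreDimAt_of_specializes (i ≫ f)
    (genericPoint_specializes t) e he
  obtain ⟨z, hz1, hz2, -, n, hn1, hn2⟩ := exists_fibGeneric_rtd_eq (i ≫ f) t
  refine ⟨i z, ?_, hz1.map i.continuous, by simpa using hz2, ?_⟩
  · rw [specializes_iff_mem_closure, ← hir]
    exact ⟨z, rfl⟩
  · rw [← hiξ, ← hrtd, ← hrtd, he, hn1]
    rw [hn2] at h1
    exact_mod_cast h1

end K127.RtdChev
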