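import Groth.Prelude.Def_EGA43
import Mathlib.Topology.Semicontinuity.Basic
import Groth.Agent.Ega4Fib.H176.SecDim
import Groth.Agent.Ega43.OpenAt

/-!
# Components of fibres along a section: no Noetherian hypothesis on the base

* `dim_le_of_meets`: semicontinuity of the dimension of locally closed subsets of fibres
* `isIrreducible_of_geom`: geometric irreducibility implies irreducibility
* `dim_eq`: the dimension of an irreducible `X⁰_y` is the fibre dimension at `g y`
* `isUnivOpenAt_of_dim_const`: locally of finite presentation version of S3458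
-/

set_option autoImplicit false
open CategoryTheory AlgebraicGeometry Limits TopologicalSpace Topology
universe u

namespace K127.SecComp

open Groth.Agent Groth.Agent.Ega4Fib.H176.SecDvr Groth.Agent.Ega4Fib.H176.SecDim

/-- `D₁` irreducible and closed in the fibre over `a`, `D₂` open in the fibre over `b`, meeting the closure
of `D₁`: then `dim D₁ ≤ dim D₂`. -/
theorem dim_le_of_meets {P T : Scheme.{u}} (q : P ⟶ T) [LocallyOfFiniteType q] {a b : T}
    {D₁ D₂ F₁ O₂ : Set P} (h₁ : IsIrreducible D₁)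
    (hF₁ : IsClosed F₁) (hD₁ : D₁ = F₁ ∩ q ⁻¹' {a})
    (hO₂ : IsOpen O₂) (hD₂ : D₂ = O₂ ∩ q ⁻¹' {b})
    (hs : (D₂ ∩ closure D₁).Nonempty) : topologicalKrullDim D₁ ≤ topologicalKrullDim D₂ := by
  obtain ⟨ζ, hζ, hζc⟩ := exists_generic_mem q h₁ hF₁ hD₁
  obtain ⟨Z, i, hi, hZ, hiζ, hir⟩ := CycA.ClosurePt.exists_closure_subscheme ζ
  have hft : LocallyOfFiniteType (i ≫ q) := inferInstance
  -- the fibre of `Z` over `a`
  have hfa : i '' ((i ≫ q) ⁻¹' {a}) = D₁ := by
    apply subset_antisymm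
    · rintro _ ⟨z, hz, rfl⟩
      rw [hD₁]
      refine ⟨?_, hz⟩
      have h1 : i z ∈ closure D₁ := by rw [← hζc, ← hir]; exact ⟨z, rfl⟩
      refine closure_minimal ?_ hF₁ h1
      rw [hD₁]; exact Set.inter_subset_left
    · intro x hx
      have h1 : x ∈ Set.range i := by rw [hir, hζc]; exact subset_closure hx
      obtain ⟨z, rfl⟩ := h1
      rw [hD₁] at hx
      exact ⟨z, hx.2, rfl⟩
  have hirr : IsIrreducible ((i ≫ q) ⁻¹' {a}) := by
    have h3 : (i ≫ q) ⁻¹' {a} = i ⁻¹' D₁ := by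
      rw [← hfa, Set.preimage_image_eq _ i.isEmbedding.injective]
    rw [h3]
    refine ⟨?_, VarietyB.DimTop.isPreirreducible_preimage i.isEmbedding.isInducing
      h₁.isPreirreducible ?_⟩
    · exact ⟨genericPoint Z, by rw [Set.mem_preimage, hiζ]; exact hζ⟩
    · rw [← hfa]; exact Set.image_subset_range _ _
  obtain ⟨d, hd, hd'⟩ := exists_nat_dim_fibre (i ≫ q) a hirr
  -- the dimension of `D₁`
  have hdD₁ : topologicalKrullDim D₁ = d := by
    rw [← hd]
    have e : ((i ≫ q) ⁻¹' {a} : Set Z) ≃ₜ (i '' ((i ≫ q) ⁻¹' {a}) : Set P) :=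
      i.isEmbedding.homeomorphImage _
    rw [IsHomeomorph.topologicalKrullDim_eq e e.isHomeomorph, hfa]
  -- the special point
  obtain ⟨s, hs₂, hs₁⟩ := hs
  obtain ⟨z, rfl⟩ : s ∈ Set.range i := by rw [hir, hζc]; exact hs₁
  have hζa : (i ≫ q) (genericPoint Z) = a := by
    rw [Scheme.Hom.comp_apply, hiζ]
    rw [hD₁] at hζ
    exact hζ.2
  have hzb : (i ≫ q) z = b := by
    rw [Scheme.Hom.comp_apply]
    rw [hD₂] at hs₂
    exact hs₂.2
  have hge : (d : WithBot ℕ∞) ≤ FlatMor.fibreDimAt (i ≫ q) z := by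
    obtain ⟨e, he⟩ := Ega43.FibreDimFinite.exists_fibreDimAt_eq (i ≫ q) z
    by_contra hlt
    rw [not_le] at hlt
    have h4 : z ∈ {x : Z | FlatMor.fibreDimAt (i ≫ q) x ≤ e} := he.le
    have h5 : genericPoint Z ∈ {x : Z | FlatMor.fibreDimAt (i ≫ q) x ≤ e} :=
      (genericPoint_specializes z).mem_open (S0402.result (i ≫ q) e) h4
    have h6 : FlatMor.fibreDimAt (i ≫ q) (genericPoint Z) ≤ e := h5
    rw [hd' _ hζa] at h6
    rw [he] at hlt
    exact absurd h6 (not_le.mpr hlt)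
  -- the intersection with `D₂`
  rw [FlatA.FibreDim.fibreDimAt_eq] at hge
  let U : Opens ((i ≫ q) ⁻¹' {(i ≫ q) z}) :=
    ⟨Subtype.val ⁻¹' (i ⁻¹' O₂), (hO₂.preimage i.continuous).preimage continuous_subtype_val⟩
  have hzU : (⟨z, rfl⟩ : ((i ≫ q) ⁻¹' {(i ≫ q) z})) ∈ U := by
    change i z ∈ O₂
    rw [hD₂] at hs₂
    exact hs₂.1
  have h7 := hge.trans (VarietyB.DimTop.localDim_le U hzU)
  have hmemU : ∀ v : ↥(U : Set ((i ≫ q) ⁻¹' {(i ≫ q) z})), i v.1.1 ∈ D₂ := by
    rintro ⟨⟨v, hv1⟩, hv2⟩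
    rw [hD₂]
    refine ⟨hv2, ?_⟩
    rw [hzb] at hv1
    exact hv1
  let θ : ↥(U : Set ((i ≫ q) ⁻¹' {(i ≫ q) z})) → D₂ := fun v => ⟨i v.1.1, hmemU v⟩
  have hθ : IsInducing θ := by
    refine IsInducing.of_comp (g := fun b : D₂ => (b.1 : P)) ?_ continuous_subtype_val ?_
    · refine Continuous.subtype_mk ?_ _
      exact i.continuous.comp (continuous_subtype_val.comp continuous_subtype_val)
    · exact i.isEmbedding.isInducing.comp (IsInducing.subtypeVal.comp IsInducing.subtypeVal)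
  rw [hdD₁]
  exact h7.trans hθ.topologicalKrullDim_le

section

variable {X Y : Scheme.{u}} (f : X ⟶ Y) (g : Y ⟶ X)

/-- A geometrically irreducible subset of a fibre is irreducible. -/
theorem isIrreducible_of_geom (y : Y) (C : Set X) (hC : C ⊆ f ⁻¹' {y})
    (hgi : ∀ (K : Type u) [Field K] [Algebra (IsLocalRing.ResidueField (Y.presheaf.stalk y)) K],
      IsIrreducible ((FBase.bcπ (f.fiberToSpecResidueField y) K ≫ f.fiberι y).base ⁻¹' C)) :
    IsIrreducible C := by
  have h := isIrreducible_ov (p := 𝟙 X) (q := f) (f := f) (g := 𝟙 Y)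
    (IsPullback.of_horiz_isIso ⟨by simp⟩) y C hgi
  have : ov (𝟙 X) f C y = C := by
    ext w
    exact ⟨fun hw => hw.2, fun hw => ⟨hC hw, hw⟩⟩
  rwa [this] at h

variable (hg : g ≫ f = 𝟙 Y)

include hg

theorem apply_apply (z : Y) : f (g z) = z := by
  rw [← Scheme.Hom.comp_apply, hg]; rfl

theorem mem_comp (z : Y) : g z ∈ connectedComponentIn (f ⁻¹' {z}) (g z) :=
  mem_connectedComponentIn (apply_apply f g hg z)

/-- The dimension of an irreducible `X⁰_y` is the fibre dimension at `g y`. -/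
theorem dim_eq [LocallyOfFiniteType f] (z : Y)
    (hirr : IsIrreducible (connectedComponentIn (f ⁻¹' {z}) (g z))) :
    topologicalKrullDim ↥(connectedComponentIn (f ⁻¹' {z}) (g z)) =
      FlatMor.fibreDimAt f (g z) := by
  obtain ⟨⟨O, hO, hCO⟩, -⟩ := exists_open_closed f z (g z) (apply_apply f g hg z)
  exact dim_eq_fibreDimAt f hO hCO hirr (mem_comp f g hg z)

/-- `y ↦ dim X⁰_y` is upper semicontinuous when every `X⁰_y` is irreducible. -/
theorem upperSemicontinuous [LocallyOfFiniteType f]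
    (hirr : ∀ z, IsIrreducible (connectedComponentIn (f ⁻¹' {z}) (g z))) :
    UpperSemicontinuous (fun y : Y =>
      topologicalKrullDim ↥(connectedComponentIn (f ⁻¹' {y}) (g y))) := by
  intro y c hc
  change topologicalKrullDim ↥(connectedComponentIn (f ⁻¹' {y}) (g y)) < c at hc
  change ∀ᶠ z in nhds y, topologicalKrullDim ↥(connectedComponentIn (f ⁻¹' {z}) (g z)) < c
  rw [dim_eq f g hg y (hirr y)] at hc
  obtain ⟨d, hd⟩ := Ega43.FibreDimFinite.exists_fibreDimAt_eq f (g y)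
  have h1 : IsOpen {x : X | FlatMor.fibreDimAt f x ≤ d} := S0402.result f d
  have h2 : g ⁻¹' {x : X | FlatMor.fibreDimAt f x ≤ d} ∈ nhds y :=
    (h1.preimage g.continuous).mem_nhds hd.le
  filter_upwards [h2] with z hz
  rw [dim_eq f g hg z (hirr z)]
  rw [hd] at hc
  exact lt_of_le_of_lt hz hc

/-- If the dimension of the geometrically irreducible `X⁰_z` is locally constant near `y`, a morphism
locally of finite presentation is universally open at every point of `X⁰_y`. -/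
theorem isUnivOpenAt_of_dim_const [LocallyOfFinitePresentation f]
    (hgi : ∀ (y : Y) (K : Type u) [Field K] [Algebra (IsLocalRing.ResidueField (Y.presheaf.stalk y)) K],
      IsIrreducible ((FBase.bcπ (f.fiberToSpecResidueField y) K ≫ f.fiberι y).base ⁻¹'
        (connectedComponentIn (f.base ⁻¹' {y}) (g.base y))))
    (y : Y)
    (hc : ∃ V ∈ nhds y, ∀ z ∈ V,
      topologicalKrullDim ↥(connectedComponentIn (f.base ⁻¹' {z}) (g.base z)) =
        topologicalKrullDim ↥(connectedComponentIn (f.base ⁻¹' {y}) (g.base y))) :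
    ∀ x ∈ connectedComponentIn (f.base ⁻¹' {y}) (g.base y), EGA43.IsUnivOpenAt f x := by
  intro x hx
  have hfx : f x = y := connectedComponentIn_subset (f ⁻¹' {y}) (g y) hx
  have hfg : ∀ z, f (g z) = z := apply_apply f g hg
  intro T φ x' hx'1
  let p : Limits.pullback f φ ⟶ X := Limits.pullback.fst f φ
  let q : Limits.pullback f φ ⟶ T := Limits.pullback.snd f φ
  have hP : IsPullback p q f φ := IsPullback.of_hasPullback f φ
  let s : T ⟶ Limits.pullback f φ := Limits.pullback.lift (φ ≫ g) (𝟙 _) (by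
    rw [Category.assoc, hg, Category.comp_id, Category.id_comp])
  have hs1 : s ≫ p = φ ≫ g := Limits.pullback.lift_fst _ _ _
  have hs2 : s ≫ q = 𝟙 _ := Limits.pullback.lift_snd _ _ _
  have hsp : ∀ t, p (s t) = g (φ t) := fun t => by
    rw [← Scheme.Hom.comp_apply, hs1, Scheme.Hom.comp_apply]
  have hsq : ∀ t, q (s t) = t := fun t => by
    rw [← Scheme.Hom.comp_apply, hs2]; rfl
  have hcomm : ∀ w, f (p w) = φ (q w) := fun w => by
    rw [← Scheme.Hom.comp_apply, ← Scheme.Hom.comp_apply, hP.w]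
  have hpx' : p x' = x := hx'1
  refine Ega43.OpenAt.isOpenAt_of_forall_specializes q x' ?_
  intro U hxU η hηm
  set m : T := q x' with hm
  have hφm : φ m = y := by rw [hm, ← hcomm, hpx', hfx]
  let C : Y → Set X := fun z => connectedComponentIn (f ⁻¹' {z}) (g z)
  have hD : ∀ t : T, IsIrreducible (ov p q (C (φ t)) t) := fun t =>
    isIrreducible_ov hP t (C (φ t)) (fun K _ _ => hgi (φ t) K)
  have hmem : ∀ t : T, s t ∈ ov p q (C (φ t)) t := fun t => by
    refine ⟨hsq t, ?_⟩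
    rw [hsp]
    exact mem_connectedComponentIn (hfg _)
  have hov : ∀ (t : T) (S : Set X), C (φ t) = S ∩ f ⁻¹' {φ t} →
      ov p q (C (φ t)) t = p ⁻¹' S ∩ q ⁻¹' {t} := by
    intro t S hS
    ext w
    constructor
    · rintro ⟨h1, h2⟩
      rw [hS] at h2
      exact ⟨h2.1, h1⟩
    · rintro ⟨h1, h2⟩
      have h2' : q w = t := h2
      refine ⟨h2, ?_⟩
      rw [hS]
      refine ⟨h1, ?_⟩
      change f (p w) = φ t
      rw [hcomm, h2']
  obtain ⟨⟨O₁, hO₁, hCO₁⟩, ⟨F₁, hF₁, hCF₁⟩⟩ := exists_open_closed f (φ η) (g (φ η)) (hfg _)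
  obtain ⟨⟨O₂, hO₂, hCO₂⟩, -⟩ := exists_open_closed f (φ m) (g (φ m)) (hfg _)
  have hdim : topologicalKrullDim (ov p q (C (φ η)) η) = topologicalKrullDim (ov p q (C (φ m)) m) := by
    rw [dim_ov hP η hO₁ hCO₁, dim_ov hP m hO₂ hCO₂]
    obtain ⟨V, hV, hVd⟩ := hc
    have h1 : φ η ∈ V := by
      obtain ⟨W, hWV, hW, hyW⟩ := mem_nhds_iff.mp hV
      refine hWV (((hηm.map φ.continuous).mem_open hW ?_))
      rw [hφm]; exact hyW
    have h2 := hVd _ h1
    rw [hφm]
    exact h2
  obtain ⟨ζ, hζ, hζx⟩ := exists_generic_of_dim q (hD η) (hD m) (hF₁.preimage p.continuous)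
    (hov η F₁ hCF₁) (hO₂.preimage p.continuous) (hov m O₂ hCO₂) hdim
    ⟨s m, hmem m, by
      have h1 : s η ⤳ s m := hηm.map s.continuous
      exact closure_mono (Set.singleton_subset_iff.mpr (hmem η)) (specializes_iff_mem_closure.mp h1)⟩
  refine ⟨ζ, ?_, hζ.1⟩
  have h3 : ζ ⤳ x' := hζx x' ⟨rfl, by rw [hpx', hφm]; exact hx⟩
  exact h3.mem_open U.2 hxU

end

end K127.SecComp
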