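import Groth.Agent.EGA43.K127.SecFlatFP

/-!
# Consequences of the constancy of the dimension of the section components
-/

set_option autoImplicit false
open CategoryTheory AlgebraicGeometry Limits TopologicalSpace Topology
universe u

namespace K127.SecConst

open Groth.Agent Groth.Agent.Ega43.GeomAt Groth.Agent.Ega4fib.H141.SecDvr K127.GeomIrred

variable {X Y : Scheme.{u}} (f : X ⟶ Y) (g : Y ⟶ X) (hg : g ≫ f = 𝟙 Y)

include hg

theorem fibreDimAt_le_of_const [LocallyOfFiniteType f]
    (hirr : ∀ z, IsIrreducible (connectedComponentIn (f ⁻¹' {z}) (g z))) {y : Y} {V : Set Y}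
    (hV : V ∈ nhds y)
    (hc : ∀ z ∈ V, topologicalKrullDim ↥(connectedComponentIn (f ⁻¹' {z}) (g z)) =
      topologicalKrullDim ↥(connectedComponentIn (f ⁻¹' {y}) (g y))) (z : Y) (hz : z ⤳ y) :
    FlatMor.fibreDimAt f (g y) ≤ FlatMor.fibreDimAt f (g z) := by
  obtain ⟨W, hWV, hW, hyW⟩ := mem_nhds_iff.mp hV
  have h1 := hc z (hWV (hz.mem_open hW hyW))
  rw [SecComp.dim_eq f g hg z (hirr z), SecComp.dim_eq f g hg y (hirr y)] at h1
  exact h1.ge

variable
  (hgi : ∀ y : Y, (∀ (K : Type u) [Field K] [Algebra (IsLocalRing.ResidueField (Y.presheaf.stalk y)) K],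
    IsIrreducible ((FBase.bcπ (f.fiberToSpecResidueField y) K ≫ f.fiberι y).base ⁻¹'
      connectedComponentIn (f.base ⁻¹' {y}) (g.base y))))

include hgi in
omit hg in
theorem isIrreducible (z : Y) : IsIrreducible (connectedComponentIn (f ⁻¹' {z}) (g z)) :=
  SecComp.isIrreducible_of_geom f z _ (connectedComponentIn_subset _ _) (fun K _ _ => hgi z K)

include hgi in
omit hg in
theorem geomIrr (z : Y) : GeomIrr f z (MoreMor.sectionComponents f g) :=
  (geomIrr_sectionComponents_iff g _).mp ((geomIrr_iff (f := f) z _).mpr (hgi z))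

include hgi in
/-- Universal openness at the points of `X⁰` near a point where the dimension of `X⁰_y` is locally constant. -/
theorem exists_isUnivOpenAt [LocallyOfFinitePresentation f] (y : Y)
    (hconst : ∃ V ∈ nhds y, ∀ z ∈ V,
      topologicalKrullDim ↥(connectedComponentIn (f ⁻¹' {z}) (g z)) =
        topologicalKrullDim ↥(connectedComponentIn (f ⁻¹' {y}) (g y))) :
    ∃ U : Y.Opens, y ∈ U ∧ ∀ x ∈ MoreMor.sectionComponents f g, f.base x ∈ U →
      EGA43.IsUnivOpenAt f x := by
  obtain ⟨V, hV, hc⟩ := hconst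
  obtain ⟨W, hWV, hW, hyW⟩ := mem_nhds_iff.mp hV
  refine ⟨⟨W, hW⟩, hyW, fun x hx hfx => ?_⟩
  refine SecOpenAt.isUnivOpenAt f g hg (f x) (hgi (f x)) ?_ x hx
  refine fibreDimAt_le_of_const f g hg (isIrreducible f g hgi) (hW.mem_nhds hfx) fun z hz => ?_
  exact (hc z (hWV hz)).trans (hc (f x) (hWV hfx)).symm

end K127.SecConst
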