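import Groth.Agent.S2121
import Groth.Agent.EGA43.K127.RtdChev
import Groth.Agent.Ega43.OpenAt
import Groth.Agent.Ega4fib.H125.GenLift
import Mathlib.RingTheory.AlgebraicIndependent.Basic
import Mathlib.RingTheory.Valuation.ValuationRing

/-!
# Transcendence degrees over a valuation ring, and universally open morphisms

* `trd_quotientMap_le`, `rtd_le_of_specializes`: over a valuation ring the transcendence degree of the
  residue field extension does not decrease under arbitrary generization;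
* `exists_valuationRing_of_specializes`: a specialization `y' ⤳ y` comes from a valuation ring;
* `exists_rtd_ge_of_isUnivOpenAt`: if `f` is universally open at a maximal point `ξ` of its fibre and
  `y' ⤳ f ξ`, there is `ζ ⤳ ξ` over `y'` with `rtd f ξ ≤ rtd f ζ`.
-/

set_option autoImplicit false
open CategoryTheory AlgebraicGeometry Limits TopologicalSpace Topology
universe u

namespace K127.ValTrd

open Groth.Agent Groth.Agent.CycB.RelDim Groth.Agent.Ega4fib.H172.FibDimBC
open Groth.Agent.CycB.TrdegAlg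

/-- Over a valuation ring, a nonzero polynomial is a nonzero scalar multiple of a polynomial with
a unit coefficient. -/
theorem exists_eq_C_mul {σ V : Type*} [CommRing V] [IsDomain V] [ValuationRing V]
    (P : MvPolynomial σ V) (hP : P ≠ 0) :
    ∃ (c : V) (Q : MvPolynomial σ V), c ≠ 0 ∧ P = MvPolynomial.C c * Q ∧ ∃ i, Q.coeff i = 1 := by
  classical
  have key : ∀ s : Finset (σ →₀ ℕ), s.Nonempty → ∃ i ∈ s, ∀ j ∈ s, P.coeff i ∣ P.coeff j := by
    intro s hs
    induction hs using Finset.Nonempty.cons_induction with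
    | singleton a => exact ⟨a, by simp, by simp⟩
    | cons a s ha hs ih =>
      obtain ⟨i, hi, hi'⟩ := ih
      rcases ValuationRing.dvd_total (P.coeff a) (P.coeff i) with h | h
      · refine ⟨a, by simp, ?_⟩
        intro j hj
        rcases Finset.mem_cons.mp hj with rfl | hj
        · exact dvd_rfl
        · exact h.trans (hi' j hj)
      · refine ⟨i, Finset.mem_cons_of_mem hi, ?_⟩
        intro j hj
        rcases Finset.mem_cons.mp hj with rfl | hj
        · exact h
        · exact hi' j hj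
  obtain ⟨i, hi, hi'⟩ := key P.support (by simpa using hP)
  have hall : ∀ j, P.coeff i ∣ P.coeff j := by
    intro j
    by_cases hj : j ∈ P.support
    · exact hi' j hj
    · rw [MvPolynomial.notMem_support_iff.mp hj]
      exact dvd_zero _
  have hdvd : MvPolynomial.C (P.coeff i) ∣ P := by
    rw [MvPolynomial.C_dvd_iff_dvd_coeff]
    exact hall
  obtain ⟨Q, hQ⟩ := hdvd
  have hc : P.coeff i ≠ 0 := MvPolynomial.mem_support_iff.mp hi
  refine ⟨P.coeff i, Q, hc, hQ, i, ?_⟩
  have := congrArg (fun R => MvPolynomial.coeff i R) hQ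
  simp only [MvPolynomial.coeff_C_mul] at this
  exact (mul_left_cancel₀ hc (by rw [mul_one]; exact this)).symm

/-- Over a valuation ring `V`, the transcendence degree of the residue field extension does not decrease
under generization. -/
theorem trd_quotientMap_le {V R : Type u} [CommRing V] [IsDomain V] [ValuationRing V] [CommRing R]
    (φ : V →+* R) (b q : Ideal R) [b.IsPrime] [q.IsPrime] (hbq : b ≤ q)
    (pb pq : Ideal V) (hpb : pb = b.comap φ) (hpq : pq = q.comap φ) :
    trd (Ideal.quotientMap q φ hpq.le) ≤ trd (Ideal.quotientMap b φ hpb.le) := by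
  have hpbP : pb.IsPrime := by rw [hpb]; infer_instance
  have hpqP : pq.IsPrime := by rw [hpq]; infer_instance
  let _ : Algebra (V ⧸ pq) (R ⧸ q) := (Ideal.quotientMap q φ hpq.le).toAlgebra
  let _ : Algebra (V ⧸ pb) (R ⧸ b) := (Ideal.quotientMap b φ hpb.le).toAlgebra
  change Algebra.trdeg (V ⧸ pq) (R ⧸ q) ≤ Algebra.trdeg (V ⧸ pb) (R ⧸ b)
  have hVb : ValuationRing (V ⧸ pb) :=
    Function.Surjective.valuationRing (Ideal.Quotient.mk pb) Ideal.Quotient.mk_surjective
  have hinj : Function.Injective (algebraMap (V ⧸ pb) (R ⧸ b)) := by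
    refine Ideal.quotientMap_injective' (h := hpb.ge)
  refine ciSup_le' fun s => ?_
  obtain ⟨s, hs⟩ := s
  change Cardinal.mk s ≤ _
  -- lifts of the elements of `s`
  choose x hx using fun i : s => Ideal.Quotient.mk_surjective (I := q) i.1
  let y : s → R ⧸ b := fun i => Ideal.Quotient.mk b (x i)
  have hy : AlgebraicIndependent (V ⧸ pb) y := by
    rw [algebraicIndependent_iff]
    intro F hF
    by_contra hF0
    obtain ⟨c, G, hc, rfl, i, hi⟩ := exists_eq_C_mul F hF0
    have hG : MvPolynomial.aeval y G = 0 := by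
      rw [map_mul, MvPolynomial.aeval_C] at hF
      rcases mul_eq_zero.mp hF with h | h
      · exact absurd (hinj (h.trans (map_zero _).symm)) hc
      · exact h
    obtain ⟨G', rfl⟩ := MvPolynomial.map_surjective (Ideal.Quotient.mk pb)
      Ideal.Quotient.mk_surjective G
    have h1 : MvPolynomial.eval₂ φ x G' ∈ b := by
      rw [← Ideal.Quotient.eq_zero_iff_mem, ← hG, MvPolynomial.aeval_def,
        MvPolynomial.eval₂_map, MvPolynomial.hom_eval₂]
      rfl
    have h2 : MvPolynomial.aeval (fun i : s => (i.1 : R ⧸ q))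
        (MvPolynomial.map (Ideal.Quotient.mk pq) G') = 0 := by
      rw [← Ideal.Quotient.eq_zero_iff_mem.mpr (hbq h1), MvPolynomial.aeval_def,
        MvPolynomial.eval₂_map, MvPolynomial.hom_eval₂]
      have h3 : (fun i : s => (i.1 : R ⧸ q)) = (Ideal.Quotient.mk q) ∘ x := by
        ext i
        exact (hx i).symm
      rw [h3]
      rfl
    have h3 := (algebraicIndependent_iff.mp hs) _ h2
    have h4 : MvPolynomial.coeff i (MvPolynomial.map (Ideal.Quotient.mk pq) G') = 0 := by
      rw [h3, MvPolynomial.coeff_zero]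
    rw [MvPolynomial.coeff_map] at h4 hi
    have h5 : MvPolynomial.coeff i G' - 1 ∈ pq := by
      have h6 : MvPolynomial.coeff i G' - 1 ∈ pb := by
        rw [← Ideal.Quotient.eq_zero_iff_mem, map_sub, hi, map_one, sub_self]
      have h7 : pb ≤ pq := by
        rw [hpb, hpq]
        exact Ideal.comap_mono hbq
      exact h7 h6
    have h6 : (1 : V) ∈ pq := by
      have h7 : MvPolynomial.coeff i G' ∈ pq := Ideal.Quotient.eq_zero_iff_mem.mp h4
      have h8 := Ideal.sub_mem _ h7 h5
      simpa using h8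
    exact hpqP.ne_top ((Ideal.eq_top_iff_one _).mpr h6)
  exact hy.cardinalMk_le_trdeg

/-- Over the spectrum of a valuation ring the transcendence degree does not decrease under
generization. -/
theorem rtd_le_of_specializes {V : Type u} [CommRing V] [IsDomain V] [ValuationRing V] {P : Scheme.{u}}
    (q : P ⟶ Spec (CommRingCat.of V)) {ζ ξ : P} (h : ζ ⤳ ξ) : rtd q ξ ≤ rtd q ζ := by
  let Y : Scheme.{u} := Spec (CommRingCat.of V)
  have hU : IsAffineOpen (⊤ : Y.Opens) := isAffineOpen_top Y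
  let e : V →+* Γ(Y, ⊤) := (Scheme.ΓSpecIso (CommRingCat.of V)).inv.hom
  have hes : Function.Surjective e :=
    (Scheme.ΓSpecIso (CommRingCat.of V)).symm.commRingCatIsoToRingEquiv.surjective
  have hdom : IsDomain Γ(Y, ⊤) :=
    (Scheme.ΓSpecIso (CommRingCat.of V)).commRingCatIsoToRingEquiv.toMulEquiv.isDomain V
  have hval : ValuationRing Γ(Y, ⊤) := Function.Surjective.valuationRing e hes
  obtain ⟨W, hW, hξ, -⟩ := exists_isAffineOpen_mem_and_subset (X := P) (x := ξ) (U := ⊤) trivial
  have hζ : ζ ∈ W := h.mem_open W.2 hξ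
  have hWU : W ≤ q ⁻¹ᵁ ⊤ := fun _ _ => trivial
  have h1 : (hU.primeIdealOf ⟨q ξ, hWU hξ⟩).asIdeal =
      (hW.primeIdealOf ⟨ξ, hξ⟩).asIdeal.comap (q.appLE ⊤ W hWU).hom :=
    congrArg PrimeSpectrum.asIdeal (IsAffineOpen.comap_primeIdealOf_appLE ⊤ hU W hW hWU hξ).symm
  have h2 : (hU.primeIdealOf ⟨q ζ, hWU hζ⟩).asIdeal =
      (hW.primeIdealOf ⟨ζ, hζ⟩).asIdeal.comap (q.appLE ⊤ W hWU).hom :=
    congrArg PrimeSpectrum.asIdeal (IsAffineOpen.comap_primeIdealOf_appLE ⊤ hU W hW hWU hζ).symm
  rw [rtd_eq_trd_quotientMap q hU hW hWU ξ hξ (hWU hξ) _ rfl h1.le,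
    rtd_eq_trd_quotientMap q hU hW hWU ζ hζ (hWU hζ) _ rfl h2.le]
  exact trd_quotientMap_le _ _ _ (primeIdealOf_le_of_specializes hW h hξ hζ) _ _ h2 h1

/-- A specialization comes from a valuation ring. -/
theorem exists_valuationRing_of_specializes {Y : Scheme.{u}} {y' y : Y} (h : y' ⤳ y) :
    ∃ (V : Type u) (_ : CommRing V) (_ : IsDomain V) (_ : ValuationRing V)
      (φ : Spec (CommRingCat.of V) ⟶ Y) (η : Spec (CommRingCat.of V)),
      φ (IsLocalRing.closedPoint V) = y ∧ φ η = y' ∧ η ⤳ IsLocalRing.closedPoint V := by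
  obtain ⟨V, h1, h2, h3, a, φ, h4, h5⟩ := S2121.result (Y.fromSpecResidueField y') y (by
    have : Set.range (Y.fromSpecResidueField y').base = {y'} := by
      exact Scheme.range_fromSpecResidueField y'
    rw [this]
    exact specializes_iff_mem_closure.mp h)
  refine ⟨V, h1, h2, h3, φ, Spec.map (CommRingCat.ofHom (algebraMap V (FractionRing V)))
    (IsLocalRing.closedPoint (FractionRing V)), h5, ?_, IsLocalRing.specializes_closedPoint _⟩
  have h6 : φ (Spec.map (CommRingCat.ofHom (algebraMap V (FractionRing V)))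
      (IsLocalRing.closedPoint (FractionRing V))) =
      (a ≫ Y.fromSpecResidueField y') (IsLocalRing.closedPoint (FractionRing V)) := by
    rw [h4]
    rfl
  rw [h6, Scheme.Hom.comp_apply]
  exact Scheme.fromSpecResidueField_apply _ _

/-- If `f` is universally open at a maximal point `ξ` of its fibre and `y' ⤳ f ξ`, there is `ζ ⤳ ξ` over `y'`
with `rtd f ξ ≤ rtd f ζ`. -/
theorem exists_rtd_ge_of_isUnivOpenAt {X Y : Scheme.{u}} (f : X ⟶ Y) [LocallyOfFiniteType f] {ξ : X}
    (hξ : FibGeneric f ξ) (ho : EGA43.IsUnivOpenAt f ξ) {y' : Y} (h : y' ⤳ f ξ) :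
    ∃ ζ : X, ζ ⤳ ξ ∧ f ζ = y' ∧ rtd f ξ ≤ rtd f ζ := by
  obtain ⟨V, _, _, _, φ, η, hφm, hφη, hη⟩ := exists_valuationRing_of_specializes h
  let p : pullback f φ ⟶ X := pullback.fst f φ
  let q : pullback f φ ⟶ Spec (CommRingCat.of V) := pullback.snd f φ
  have hP : IsPullback p q f φ := IsPullback.of_hasPullback f φ
  have hcomm : ∀ w, f (p w) = φ (q w) := fun w => by
    rw [← Scheme.Hom.comp_apply, ← Scheme.Hom.comp_apply, hP.w]
  obtain ⟨t₀, ht₀1, ht₀2⟩ := Scheme.Pullback.exists_preimage_pullback (f := f) (g := φ) ξ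
    (IsLocalRing.closedPoint V) hφm.symm
  obtain ⟨ξ', hξ'1, hξ'2, -, n, hn1, hn2⟩ := exists_fibGeneric_rtd_eq q t₀
  have hqξ' : q ξ' = IsLocalRing.closedPoint V := hξ'2.trans ht₀2
  have hpξ' : p ξ' = ξ := by
    refine hξ _ ?_ ?_
    · rw [hcomm, hqξ', hφm]
    · have h1 := hξ'1.map p.continuous
      have h2 : p t₀ = ξ := ht₀1
      rwa [h2] at h1
  have hrξ : rtd f ξ = n := by
    obtain ⟨z, hz1, hz2, -, m, hm1, hm2⟩ := exists_fibGeneric_rtd_eq f ξ
    have hz : z = ξ := hξ z hz2 hz1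
    rw [fibreDimAt_of_isPullback hP] at hn2
    have h2 : p t₀ = ξ := ht₀1
    rw [h2, hm2] at hn2
    have h3 : m = n := by exact_mod_cast hn2
    rw [← hz, hm1, h3]
  -- lift the generization
  have hopen := ho _ φ ξ' hpξ'
  have hgen := Ega43.OpenAt.genAt_of_isOpenAt q ξ' hopen
  obtain ⟨ζ', hζ'1, hζ'2⟩ : ∃ ζ' : ↥(pullback f φ), ζ' ⤳ ξ' ∧ q ζ' = η :=
    Ega4fib.H125.GenLift.exists_specializes_of_genAt q ξ' hgen η (by rw [hqξ']; exact hη)
  have hle : rtd q ξ' ≤ rtd q ζ' := rtd_le_of_specializes q hζ'1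
  obtain ⟨z, hz1, hz2, -, m, hm1, hm2⟩ := exists_fibGeneric_rtd_eq f (p ζ')
  refine ⟨z, ?_, ?_, ?_⟩
  · have h1 := hz1.trans (hζ'1.map p.continuous)
    rwa [hpξ'] at h1
  · rw [hz2, hcomm, hζ'2, hφη]
  · rw [← fibreDimAt_of_isPullback hP] at hm2
    have h1 : rtd q ζ' ≤ m := rtd_le_of_fibreDimAt q (specializes_refl ζ') rfl hm2.le
    rw [hrξ, hm1, ← hn1]
    exact hle.trans h1

end K127.ValTrd
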