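import Groth.Agent.EGA43.K127.SecConst
import Groth.Agent.EGA43.K127.ValTrd
import Groth.Agent.Ega4fib.H149.FibreTopLoc
import Groth.Agent.Ega4fib.H172.FibDimConstr
import Groth.Agent.Ega43.OpenUniv
import Groth.Agent.Ega43.DvrScheme
import Groth.Agent.Ega43.CMOpen
import Groth.Agent.S3407

/-!
# Lower bounds for the dimension of section components along generizations

* `rtd_generic`: the generic point `ξ` of `X⁰_y` and its transcendence degree;
* `le_fibreDim_beta`, `le_fibreDimAt_alpha`: lower bounds at generizations of `y` when `f` is universally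
  open at `ξ`;
* `exists_nhds_const`: local constancy of `y ↦ dim X⁰_y`.
-/

set_option autoImplicit false
open CategoryTheory AlgebraicGeometry Limits TopologicalSpace Topology
universe u

namespace K127.SecDimGe

open Groth.Agent Groth.Agent.Ega4Fib.H176.SecDvr Groth.Agent.CycB.RelDim
open Groth.Agent.Ega4fib.H172.FibDimBC Groth.Agent.Ega43.GeomAt Groth.Agent.Ega4fib.H141.SecDvr
open K127.GeomIrred

variable {X Y : Scheme.{u}} (f : X ⟶ Y) (g : Y ⟶ X) (hg : g ≫ f = 𝟙 Y)

include hg

/-- The generic point of `X⁰_y`. -/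
theorem exists_generic [LocallyOfFiniteType f] (y : Y)
    (hirr : IsIrreducible (connectedComponentIn (f ⁻¹' {y}) (g y))) :
    ∃ ξ ∈ connectedComponentIn (f ⁻¹' {y}) (g y),
      (∀ x ∈ connectedComponentIn (f ⁻¹' {y}) (g y), ξ ⤳ x) ∧ FibGeneric f ξ ∧
      ∃ n : ℕ, rtd f ξ = n ∧ FlatMor.fibreDimAt f (g y) = n := by
  have hfg : ∀ z, f (g z) = z := SecComp.apply_apply f g hg
  obtain ⟨⟨O, hO, hCO⟩, ⟨F, hF, hCF⟩⟩ := exists_open_closed f y (g y) (hfg _)
  obtain ⟨ξ, hξC, hξc⟩ := exists_generic_mem f hirr hF hCF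
  have hξ : ∀ x ∈ connectedComponentIn (f ⁻¹' {y}) (g y), ξ ⤳ x := fun w hw => by
    rw [specializes_iff_mem_closure, hξc]; exact subset_closure hw
  have hfξ : f ξ = y := connectedComponentIn_subset (f ⁻¹' {y}) (g y) hξC
  have hmem : ∀ w x : X, w ⤳ x → f w = y → x ∈ connectedComponentIn (f ⁻¹' {y}) (g y) →
      w ∈ connectedComponentIn (f ⁻¹' {y}) (g y) := by
    intro w x hwx hfw hx
    rw [hCO] at hx ⊢
    exact ⟨hwx.mem_open hO hx.1, hfw⟩
  have hgen : FibGeneric f ξ := by
    intro w hfw hw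
    have h1 := hξ w (hmem w ξ hw (hfw.trans hfξ) hξC)
    exact (h1.antisymm hw).eq.symm
  refine ⟨ξ, hξC, hξ, hgen, ?_⟩
  obtain ⟨z, hz1, hz2, hz3, n, hn1, hn2⟩ := exists_fibGeneric_rtd_eq f (g y)
  have hfz : f z = y := by rw [hz2, hfg]
  have hzC := hmem z (g y) hz1 hfz (SecComp.mem_comp f g hg y)
  have hz : ξ = z := hz3 ξ (by rw [hfξ, hfz]) (hξ z hzC)
  exact ⟨n, by rw [hz]; exact hn1, hn2⟩

/-- The transcendence degree of any point of `X⁰_y` is at most the fibre dimension at `g y`. -/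
theorem rtd_le [LocallyOfFiniteType f] (y : Y)
    (hirr : IsIrreducible (connectedComponentIn (f ⁻¹' {y}) (g y))) {x : X}
    (hx : x ∈ connectedComponentIn (f ⁻¹' {y}) (g y)) {n : ℕ}
    (hn : FlatMor.fibreDimAt f (g y) = n) : rtd f x ≤ n := by
  obtain ⟨ξ, hξC, hξ, hgen, m, hm1, hm2⟩ := exists_generic f g hg y hirr
  have hmn : m = n := by rw [hm2] at hn; exact_mod_cast hn
  subst hmn
  rw [← hm1]
  have hfx : f ξ = f x := by
    have h1 : f ξ = y := connectedComponentIn_subset (f ⁻¹' {y}) (g y) hξC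
    have h2 : f x = y := connectedComponentIn_subset (f ⁻¹' {y}) (g y) hx
    rw [h1, h2]
  by_cases h : ξ = x
  · rw [h]
  · exact (rtd_lt_of_specializes f (hξ x hx) h hfx).le

omit hg in
/-- Under universal openness at the generic point of `X⁰_y`: the whole fibre over a generization of `y` has
dimension at least the one of `X⁰_y`. -/
theorem le_fibreDim_beta [LocallyOfFiniteType f] {y y' : Y} (h : y' ⤳ y) {ξ : X} (hfξ : f ξ = y)
    (hξ : FibGeneric f ξ) (ho : EGA43.IsUnivOpenAt f ξ) {n : ℕ} (hn : rtd f ξ = n) :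
    (n : WithBot ℕ∞) ≤ topologicalKrullDim ↥(f.fiber y') := by
  subst hfξ
  obtain ⟨ζ, -, rfl, hle⟩ := ValTrd.exists_rtd_ge_of_isUnivOpenAt f hξ ho h
  obtain ⟨m, hm1, hm2⟩ := exists_dim_closure_fiber f (f ζ) (f.asFiber ζ)
  rw [f.fiberι_asFiber] at hm1
  rw [hn, hm1] at hle
  have h1 : (n : WithBot ℕ∞) ≤ m := by exact_mod_cast hle
  refine h1.trans ?_
  rw [← hm2]
  exact IsInducing.subtypeVal.topologicalKrullDim_le

/-- Universal openness at the generic point of `X⁰_y` and geometric reducedness of the fibre at `g y`: the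
fibre dimension at `g y'` for generizations `y'` of `y` (Noetherian local ring at `y`). -/
theorem le_fibreDimAt_alpha [LocallyOfFinitePresentation f] {y y' : Y} (h : y' ⤳ y)
    [IsNoetherianRing (Y.presheaf.stalk y)]
    (hgi : ∀ z : Y, z ⤳ y → GeomIrr f z (MoreMor.sectionComponents f g))
    (hred : GeomAt PRed f (g y))
    (ho : ∀ ξ ∈ connectedComponentIn (f ⁻¹' {y}) (g y),
      connectedComponentIn (f ⁻¹' {y}) (g y) ⊆ closure {ξ} → EGA43.IsUnivOpenAt f ξ) :
    FlatMor.fibreDimAt f (g y) ≤ FlatMor.fibreDimAt f (g y') := by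
  by_cases hne : y' = y
  · rw [hne]
  have hfg : ∀ z, f (g z) = z := SecComp.apply_apply f g hg
  obtain ⟨R, _, _, _, _, _, φ, hφ1, hφ2⟩ := Ega43.DvrScheme.exists_dvr_of_specializes h hne
    (Y.residueField y') (𝟙 _) (RingHom.FiniteType.essFiniteType (RingHom.FiniteType.id _))
  let m : Spec (CommRingCat.of R) := IsLocalRing.closedPoint R
  let η : Spec (CommRingCat.of R) :=
    Spec.map (CommRingCat.ofHom (algebraMap R (Y.residueField y')))
      (IsLocalRing.closedPoint (Y.residueField y'))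
  have hηm : η ⤳ m := IsLocalRing.specializes_closedPoint _
  have hφm : φ m = y := hφ1
  have hφη : φ η = y' := by
    have h1 : φ η = (Spec.map (CommRingCat.ofHom (algebraMap R (Y.residueField y'))) ≫ φ)
        (IsLocalRing.closedPoint (Y.residueField y')) := rfl
    rw [h1, hφ2]
    have h3 : ∀ w : Spec (Y.residueField y'),
        (Spec.map (𝟙 (Y.residueField y')) ≫ Y.fromSpecResidueField y') w = y' := fun w ↦ by
      rw [Scheme.Hom.comp_apply]
      exact Scheme.fromSpecResidueField_apply _ _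
    exact h3 _
  let P := pullback f φ
  let p : P ⟶ X := pullback.fst f φ
  let q : P ⟶ Spec (CommRingCat.of R) := pullback.snd f φ
  have hP : IsPullback p q f φ := IsPullback.of_hasPullback f φ
  have hcomm : ∀ w, f (p w) = φ (q w) := fun w => by
    rw [← Scheme.Hom.comp_apply, ← Scheme.Hom.comp_apply, hP.w]
  let s : Spec (CommRingCat.of R) ⟶ P := pullback.lift (φ ≫ g) (𝟙 _) (by
    rw [Category.assoc, hg, Category.comp_id, Category.id_comp])
  have hs1 : s ≫ p = φ ≫ g := pullback.lift_fst _ _ _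
  have hs2 : s ≫ q = 𝟙 _ := pullback.lift_snd _ _ _
  have hsp : ∀ t, p (s t) = g (φ t) := fun t => by
    rw [← Scheme.Hom.comp_apply, hs1, Scheme.Hom.comp_apply]
  have hsq : ∀ t, q (s t) = t := SecComp.apply_apply q s hs2
  have hpre := Groth.Agent.S1324.result f g hg q p φ hP s hs2 hs1
  have hφt : ∀ t, φ t ⤳ y := fun t => by
    have h1 := (IsLocalRing.specializes_closedPoint (R := R) t).map φ.continuous
    exact h1.trans (specializes_of_eq hφm)
  -- irreducibility upstairs
  have hgiP : ∀ t, GeomIrr q t (MoreMor.sectionComponents q s) := fun t => by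
    rw [hpre]
    exact GeomIrr.baseChange hP t (hgi _ (hφt t))
  have hirrP : ∀ t, IsIrreducible (connectedComponentIn (q ⁻¹' {t}) (s t)) := fun t =>
    ((geomIrr_sectionComponents_iff s t).mpr (hgiP t)).isIrreducible
      (connectedComponentIn_subset _ _)
  have hirrX : IsIrreducible (connectedComponentIn (f ⁻¹' {y}) (g y)) :=
    ((geomIrr_sectionComponents_iff g y).mpr (hgi y (specializes_refl y))).isIrreducible
      (connectedComponentIn_subset _ _)
  obtain ⟨ξ, hξC, hξ, hξgen, n, hn1, hn2⟩ := exists_generic f g hg y hirrX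
  obtain ⟨δ, hδC, hδ, hδgen, n', hn'1, hn'2⟩ := exists_generic q s hs2 m (hirrP m)
  have hnn' : n' = n := by
    rw [fibreDimAt_of_isPullback hP, hsp, hφm, hn2] at hn'2
    exact_mod_cast hn'2.symm
  subst hnn'
  have hqδ : q δ = m := connectedComponentIn_subset (q ⁻¹' {m}) (s m) hδC
  have hfξ : f ξ = y := connectedComponentIn_subset (f ⁻¹' {y}) (g y) hξC
  -- `δ` lies over `ξ`
  have hpδ : p δ = ξ := by
    obtain ⟨t, ht1, ht2⟩ := Scheme.Pullback.exists_preimage_pullback (f := f) (g := φ) ξ m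
      (by rw [hfξ, hφm])
    have ht1' : p t = ξ := ht1
    have ht2' : q t = m := ht2
    have htC : t ∈ connectedComponentIn (q ⁻¹' {m}) (s m) := by
      rw [mem_sectionComponents_iff s ht2', hpre]
      change p t ∈ MoreMor.sectionComponents f g
      rw [ht1', ← mem_sectionComponents_iff g hfξ]
      exact hξC
    have h1 := (hδ t htC).map p.continuous
    rw [ht1'] at h1
    exact hξgen _ (by rw [hcomm, hqδ, hφm, hfξ]) h1
  have hoξ : EGA43.IsUnivOpenAt f ξ := ho ξ hξC fun x hx =>
    specializes_iff_mem_closure.mp (hξ x hx)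
  have hoδ : EGA43.IsUnivOpenAt q δ := Ega43.UnivOpenAt.isUnivOpenAt_of_isPullback hoξ hP δ hpδ
  have hredP : GeomAt PRed q (s m) := by
    rw [SecFlat.geomAt_iff hP, hsp, hφm]
    exact hred
  have hPN : IsLocallyNoetherian (Spec (CommRingCat.of R)) := inferInstance
  -- flatness at `s m`
  have hflat : (q.stalkMap (s m)).hom.Flat := by
    refine S2561.result q (s m) ?_ ((geomAt_fiber_iff isoClosed_pRed q (s m)).mpr hredP) ?_
    · intro z hz hzmax
      have hz1 : (q.fiberι (q (s m))) z ⤳ s m := by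
        have h2 := (specializes_iff_mem_closure.mpr hz).map (q.fiberι (q (s m))).continuous
        rwa [q.fiberι_asFiber] at h2
      have hz2 : q ((q.fiberι (q (s m))) z) = q (s m) := Flat2D.FiberStalk.apply_fiberι q _ z
      have hzC : (q.fiberι (q (s m))) z ∈ connectedComponentIn (q ⁻¹' {m}) (s m) := by
        obtain ⟨⟨O, hO, hCO⟩, -⟩ := exists_open_closed q m (s m) (hsq m)
        have h4 : s m ∈ connectedComponentIn (q ⁻¹' {m}) (s m) := SecComp.mem_comp q s hs2 m
        rw [hCO] at h4 ⊢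
        refine ⟨hz1.mem_open hO h4.1, ?_⟩
        change q ((q.fiberι (q (s m))) z) = m
        rw [hz2, hsq]
      have hzδ : δ = (q.fiberι (q (s m))) z := by
        obtain ⟨d, hd⟩ : δ ∈ Set.range (q.fiberι (q (s m))) := by
          rw [q.range_fiberι]
          change q δ = q (s m)
          rw [hqδ, hsq]
        have h5 : d = z := by
          refine hzmax d ?_
          rw [← specializes_iff_mem_closure,
            ← (q.fiberι (q (s m))).isEmbedding.isInducing.specializes_iff, hd]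
          exact hδ _ hzC
        rw [← h5, hd]
      have h6 : EGA43.IsUnivOpenAt q ((q.fiberι (q (s m))) z) := by rw [← hzδ]; exact hoδ
      exact h6
    · infer_instance
  -- the open set where `q` is flat with geometrically reduced fibre
  let U : P.Opens := ⟨{x | (q.stalkMap x).hom.Flat ∧ GeomAt PRed q x}, S3407.isOpen_flat_geomAt q⟩
  have hsmU : s m ∈ U := ⟨hflat, hredP⟩
  have hsU : ∀ t, s t ∈ U := fun t =>
    ((IsLocalRing.specializes_closedPoint (R := R) t).map s.continuous).mem_open U.2 hsmU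
  have hUflat : Flat (U.ι ≫ q) := by
    refine Flat.of_stalkMap _ fun w ↦ ?_
    rw [Ega43.CMOpen.flat_stalkMap_comp_iff]
    exact w.2.1
  let s' : Spec (CommRingCat.of R) ⟶ U := IsOpenImmersion.lift U.ι s (by
    rintro _ ⟨w, rfl⟩
    rw [Scheme.Opens.range_ι]
    exact hsU w)
  have hs' : s' ≫ U.ι = s := IsOpenImmersion.lift_fac _ _ _
  have hs'q : s' ≫ (U.ι ≫ q) = 𝟙 _ := by rw [reassoc_of% hs', hs2]
  have hs'ι : ∀ t, U.ι (s' t) = s t := fun t => by
    rw [← Scheme.Hom.comp_apply, hs']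
  have hs'mem : s' m ∈ MoreMor.sectionComponents (U.ι ≫ q) s' := by
    have h1 := SecComp.mem_comp (U.ι ≫ q) s' hs'q m
    rwa [mem_sectionComponents_iff s' (SecComp.apply_apply (U.ι ≫ q) s' hs'q m)] at h1
  have hlfp : LocallyOfFinitePresentation (U.ι ≫ q) := inferInstance
  have hint : s' m ∈ interior (MoreMor.sectionComponents (U.ι ≫ q) s') := by
    refine SecFlat.mem_interior_of_isNoetherian (U.ι ≫ q) s' hs'q (s' m) ?_ hs'mem
    intro z _ _
    rw [geomAt_comp_openImmersion isoClosed_pRed]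
    exact z.2.2
  have hδsm : δ ⤳ s m := hδ _ (SecComp.mem_comp q s hs2 m)
  have hδU : δ ∈ U := hδsm.mem_open U.2 hsmU
  let δ' : (U : Scheme.{u}) := ⟨δ, hδU⟩
  have hδ's : δ' ⤳ s' m := by
    rw [← U.ι.isEmbedding.isInducing.specializes_iff, hs'ι]
    exact hδsm
  have hδ'int : δ' ∈ interior (MoreMor.sectionComponents (U.ι ≫ q) s') :=
    hδ's.mem_open isOpen_interior hint
  have huo : UniversallyOpen (U.ι ≫ q) := inferInstance
  have hgm := Ega43.OpenUniv.generalizingMap_of_isOpenMap (U.ι ≫ q) (U.ι ≫ q).isOpenMap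
  have hδ'm : (U.ι ≫ q) δ' = m := by
    rw [Scheme.Hom.comp_apply]
    exact hqδ
  obtain ⟨ζ', hζ'1, hζ'2⟩ := hgm (show η ⤳ (U.ι ≫ q) δ' by rw [hδ'm]; exact hηm)
  have hζ'mem : ζ' ∈ MoreMor.sectionComponents (U.ι ≫ q) s' :=
    interior_subset (hζ'1.mem_open isOpen_interior hδ'int)
  have hζmem : U.ι ζ' ∈ MoreMor.sectionComponents q s :=
    map_mem_sectionComponents U.ι (𝟙 _) q (U.ι ≫ q) (by simp) s s' (by simp [hs']) hs'q hζ'mem
  have hqζ : q (U.ι ζ') = η := by
    rw [← Scheme.Hom.comp_apply]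
    exact hζ'2
  rw [← mem_sectionComponents_iff s hqζ] at hζmem
  have hζδ : U.ι ζ' ⤳ δ := hζ'1.map U.ι.continuous
  have hle := ValTrd.rtd_le_of_specializes q hζδ
  obtain ⟨k, hk⟩ := Ega43.FibreDimFinite.exists_fibreDimAt_eq q (s η)
  have hle2 := rtd_le q s hs2 η (hirrP η) hζmem hk
  have hle3 := hle.trans hle2
  rw [hn'1] at hle3
  rw [fibreDimAt_of_isPullback hP, hsp, hφη] at hk
  rw [hn2, hk]
  exact_mod_cast hle3

/-- Local constancy of `y ↦ dim X⁰_y`. -/
theorem exists_nhds_const [LocallyOfFinitePresentation f]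
    (hgi : ∀ z : Y, GeomIrr f z (MoreMor.sectionComponents f g)) (y : Y)
    (ho : ∀ ξ ∈ connectedComponentIn (f ⁻¹' {y}) (g y),
      connectedComponentIn (f ⁻¹' {y}) (g y) ⊆ closure {ξ} → EGA43.IsUnivOpenAt f ξ)
    (hαβ : (GeomAt PRed f (g y) ∧ IsNoetherianRing (Y.presheaf.stalk y)) ∨
      (∀ y' : Y, y ∈ closure {y'} → closure {y'} ∈ irreducibleComponents (Y : Type u) →
        topologicalKrullDim ↥(f.fiber y') =
          topologicalKrullDim ↥(connectedComponentIn (f ⁻¹' {y'}) (g y')))) :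
    ∃ V ∈ nhds y, ∀ z ∈ V, topologicalKrullDim ↥(connectedComponentIn (f ⁻¹' {z}) (g z)) =
      topologicalKrullDim ↥(connectedComponentIn (f ⁻¹' {y}) (g y)) := by
  have hirr : ∀ z, IsIrreducible (connectedComponentIn (f ⁻¹' {z}) (g z)) := fun z =>
    ((geomIrr_sectionComponents_iff g z).mpr (hgi z)).isIrreducible
      (connectedComponentIn_subset _ _)
  have hdim := fun z => SecComp.dim_eq f g hg z (hirr z)
  obtain ⟨ξ, hξC, hξ, hξgen, n, hn1, hn2⟩ := exists_generic f g hg y (hirr y)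
  have hfξ : f ξ = y := connectedComponentIn_subset (f ⁻¹' {y}) (g y) hξC
  have hoξ : EGA43.IsUnivOpenAt f ξ := ho ξ hξC fun x hx =>
    specializes_iff_mem_closure.mp (hξ x hx)
  have husc : ∀ {z z' : Y}, z' ⤳ z →
      FlatMor.fibreDimAt f (g z') ≤ FlatMor.fibreDimAt f (g z) := by
    intro z z' h
    obtain ⟨d, hd⟩ := Ega43.FibreDimFinite.exists_fibreDimAt_eq f (g z)
    rw [hd]
    exact (h.map g.continuous).mem_open (S0402.result f d) hd.le
  have hlow : ∀ z, z ⤳ y → (n : WithBot ℕ∞) ≤ FlatMor.fibreDimAt f (g z) := by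
    intro z hz
    rcases hαβ with ⟨hred, hN⟩ | hβ
    · rw [← hn2]
      exact le_fibreDimAt_alpha f g hg hz (fun w _ => hgi w) hred ho
    · obtain ⟨y', hy'⟩ : ∃ y' : Y, closure {y'} = irreducibleComponent z :=
        ⟨_, (isIrreducible_irreducibleComponent (x := z)).isGenericPoint_genericPoint
          isClosed_irreducibleComponent⟩
      have hy'z : y' ⤳ z := by
        rw [specializes_iff_mem_closure, hy']
        exact mem_irreducibleComponent
      have h1 := hβ y' (specializes_iff_mem_closure.mp (hy'z.trans hz))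
        (by rw [hy']; exact irreducibleComponent_mem_irreducibleComponents z)
      refine (le_fibreDim_beta f (hy'z.trans hz) hfξ hξgen hoξ hn1).trans ?_
      rw [h1, hdim y']
      exact husc hy'z
  let T : Set Y := g ⁻¹' {x : X | FlatMor.fibreDimAt f x < n}
  have hT : IsLocallyConstructible T :=
    Ega4fib.H149.FibreTopLoc.isLocallyConstructible_preimage g
      (Ega4fib.H172.FibDimConstr.isLocallyConstructible_fibreDimAt_lt f n)
  have hyT : y ∉ closure T := fun hy => by
    obtain ⟨z, hzT, hzy⟩ := Ega43.OpenAt.exists_specializes_of_isLocallyConstructible hT hy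
    exact absurd (hlow z hzy) (not_le.mpr hzT)
  have hup : g ⁻¹' {x : X | FlatMor.fibreDimAt f x ≤ n} ∈ nhds y :=
    ((S0402.result f n).preimage g.continuous).mem_nhds hn2.le
  refine ⟨_, Filter.inter_mem hup (isClosed_closure.isOpen_compl.mem_nhds hyT), ?_⟩
  rintro z ⟨hz1, hz2⟩
  rw [hdim z, hdim y, hn2]
  refine le_antisymm hz1 (not_lt.mp fun h => hz2 (subset_closure h))

end K127.SecDimGe
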