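import Groth.Agent.S1327
import Groth.Agent.Ega4fib.H141.SecOpen
import Groth.Agent.Ega43.GeomBC

/-!
# Section components of flat morphisms of finite presentation along a geometrically reduced component
-/

set_option autoImplicit false
universe u

open AlgebraicGeometry CategoryTheory Limits Topology

namespace K127.SecFlat

open Groth.Agent Groth.Agent.Ega43.GeomAt Groth.Agent.Ega4fib.H141.SecDvr

theorem flatDesc_pRed : Ega43.GeomBC.FlatDesc PRed.{u} := by
  intro X Y g _ x h
  have h1 : (g.stalkMap x).hom.Flat := Flat.stalkMap g x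
  have h2 : (g.stalkMap x).hom.FaithfullyFlat := by
    algebraize [(g.stalkMap x).hom]
    have : IsLocalHom (algebraMap (Y.presheaf.stalk (g x)) (X.presheaf.stalk x)) :=
      inferInstanceAs (IsLocalHom (g.stalkMap x).hom)
    exact Module.FaithfullyFlat.of_flat_of_isLocalHom
  have h3 : Function.Injective (g.stalkMap x).hom := h2.injective
  have := h
  exact isReduced_of_injective (g.stalkMap x).hom h3

theorem geomAt_iff {X' X Y' Y : Scheme.{u}} {a : X' ⟶ X}
    {f' : X' ⟶ Y'} {f : X ⟶ Y} {b : Y' ⟶ Y} (h : IsPullback a f' f b) (x' : X') :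
    GeomAt PRed f' x' ↔ GeomAt PRed f (a x') :=
  Ega43.GeomBC.geomAt_iff_of_isPullback flatDesc_pRed h x'

/-- The case of a Noetherian base. -/
theorem mem_interior_of_isNoetherian {X Y : Scheme.{u}} (f : X ⟶ Y) (s : Y ⟶ X) (hs : s ≫ f = 𝟙 Y)
    [LocallyOfFinitePresentation f] [Flat f] [IsLocallyNoetherian Y] (x : X)
    (hred : ∀ z : X, f z = f x → z ∈ MoreMor.sectionComponents f s → GeomAt PRed f z)
    (hx : x ∈ MoreMor.sectionComponents f s) : x ∈ interior (MoreMor.sectionComponents f s) := by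
  have : UniversallyOpen f := inferInstance
  exact Ega4fib.H141.SecOpen.mem_interior f s hs x
    (fun z _ _ => Ega43.UnivOpenFlatGeom.isUnivOpenAt_of_universallyOpen f z) hred hx

/-- The case of an affine base. -/
theorem mem_interior_of_isAffine {X Y : Scheme.{u}} (f : X ⟶ Y) (s : Y ⟶ X) (hs : s ≫ f = 𝟙 Y)
    [LocallyOfFinitePresentation f] [QuasiCompact f] [QuasiSeparated f] [Flat f] [IsAffine Y] (x : X)
    (hred : ∀ z : X, f z = f x → z ∈ MoreMor.sectionComponents f s → GeomAt PRed f z)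
    (hx : x ∈ MoreMor.sectionComponents f s) : x ∈ interior (MoreMor.sectionComponents f s) := by
  obtain ⟨X₀, Y₀, f₀, g', g, s₀, h1, h2, h3, h4, h5, h5', h6, h7, h8⟩ :=
    Groth.Agent.Flat2D.ApproxFlatSec.exists_noetherian_model_section_flat f s hs
  have hpre := Groth.Agent.S1324.result f₀ s₀ h7 f g' g h6 s hs h8
  have hcomm : f₀ (g' x) = g (f x) := by
    calc f₀ (g' x) = (g' ≫ f₀) x := rfl
      _ = (f ≫ g) x := by rw [h6.w]
      _ = _ := rfl
  have h11 : g' x ∈ interior (MoreMor.sectionComponents f₀ s₀) := by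
    refine mem_interior_of_isNoetherian f₀ s₀ h7 (g' x) ?_ (by rw [hpre] at hx; exact hx)
    intro z hz hz'
    -- a point of `X` over `z` and over `f x`
    obtain ⟨w, hw1, hw2⟩ := Scheme.Pullback.exists_preimage_pullback (f := f₀) (g := g) z (f x)
      (by rw [hz, hcomm])
    let w' : X := h6.isoPullback.inv w
    have hw1' : g' w' = z := by
      rw [← hw1]
      change (h6.isoPullback.inv ≫ g') w = _
      rw [h6.isoPullback_inv_fst]
    have hw2' : f w' = f x := by
      rw [← hw2]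
      change (h6.isoPullback.inv ≫ f) w = _
      rw [h6.isoPullback_inv_snd]
    rw [← hw1', ← geomAt_iff h6 w']
    refine hred w' hw2' ?_
    rw [hpre]
    change g' w' ∈ MoreMor.sectionComponents f₀ s₀
    rw [hw1']
    exact hz'
  rw [hpre]
  exact preimage_interior_subset_interior_preimage g'.continuous h11

theorem mem_interior {X Y : Scheme.{u}} (f : X ⟶ Y) (s : Y ⟶ X) (hs : s ≫ f = 𝟙 Y)
    [LocallyOfFinitePresentation f] [QuasiCompact f] [QuasiSeparated f] [Flat f] (x : X)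
    (hred : ∀ z : X, f z = f x → z ∈ MoreMor.sectionComponents f s → GeomAt PRed f z)
    (hx : x ∈ MoreMor.sectionComponents f s) : x ∈ interior (MoreMor.sectionComponents f s) := by
  obtain ⟨U, hU, hxU, -⟩ := exists_isAffineOpen_mem_and_subset (show f x ∈ (⊤ : Y.Opens) from trivial)
  have hU' : IsAffine (U : Scheme.{u}) := hU
  have hsf : ∀ y : Y, f (s y) = y := fun y ↦ by
    calc f (s y) = (s ≫ f) y := rfl
      _ = y := by rw [hs]; rfl
  let s' : (U : Scheme.{u}) ⟶ (f ⁻¹ᵁ U : X.Opens) :=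
    IsOpenImmersion.lift (f ⁻¹ᵁ U).ι (U.ι ≫ s) (by
      rintro _ ⟨w, rfl⟩
      rw [Scheme.Opens.range_ι]
      change f (s w.1) ∈ U
      rw [hsf]
      exact w.2)
  have hs' : s' ≫ (f ⁻¹ᵁ U).ι = U.ι ≫ s := IsOpenImmersion.lift_fac _ _ _
  have hs'f : s' ≫ (f ∣_ U) = 𝟙 _ := by
    rw [← cancel_mono U.ι, Category.assoc, morphismRestrict_ι, reassoc_of% hs', hs]
    simp
  have hpb := (isPullback_morphismRestrict f U).flip
  have hpre := Groth.Agent.S1324.result f s hs (f ∣_ U) (f ⁻¹ᵁ U).ι U.ι hpb s' hs'f hs'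
  let x' : ↑(f ⁻¹ᵁ U : Scheme.{u}) := ⟨x, hxU⟩
  have hx' : x' ∈ MoreMor.sectionComponents (f ∣_ U) s' := by
    rw [hpre]
    exact hx
  have hfx' : ∀ z, U.ι ((f ∣_ U) z) = f ((f ⁻¹ᵁ U).ι z) := fun z => by
    rw [← Scheme.Hom.comp_apply, ← Scheme.Hom.comp_apply, morphismRestrict_ι]
  have h2 := mem_interior_of_isAffine (f ∣_ U) s' hs'f x' (by
    intro z hz hz'
    rw [geomAt_iff hpb z]
    refine hred _ ?_ ?_
    · rw [← hfx', hz, hfx']; rfl
    · rw [hpre] at hz'
      exact hz') hx'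
  rw [hpre] at h2
  have h3 : interior ((f ⁻¹ᵁ U).ι ⁻¹' MoreMor.sectionComponents f s) =
      (f ⁻¹ᵁ U).ι ⁻¹' interior (MoreMor.sectionComponents f s) :=
    ((f ⁻¹ᵁ U).ι.isOpenEmbedding.isOpenMap.preimage_interior_eq_interior_preimage
      (f ⁻¹ᵁ U).ι.continuous _).symm
  rw [h3] at h2
  exact h2

end K127.SecFlat
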