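import Groth.Agent.EGA43.K127.SecComp
import Groth.Agent.EGA43.K127.RtdChev

/-!
# Universal openness along a section component, from the fibre dimension along the section

Let `f : X ⟶ Y` be locally of finite type with a section `g`, `y` a point of `Y` such that the connected
component `C = X⁰_y` of `g y` in the fibre is geometrically irreducible, and suppose that for every
generization `z` of `y` the dimension of the fibre at `g z` is at least the dimension of the fibre at
`g y`.  Then after any base change generizations lift along `f` at the points over `C`; in particular if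
`f` is locally of finite presentation, it is universally open at the points of `C`.
-/

set_option autoImplicit false
open CategoryTheory AlgebraicGeometry Limits TopologicalSpace Topology
universe u

namespace K127.SecOpenAt

open Groth.Agent Groth.Agent.Ega4Fib.H176.SecDvr Groth.Agent.CycB.RelDim
open Groth.Agent.Ega4fib.H172.FibDimBC

variable {X Y : Scheme.{u}} (f : X ⟶ Y) (g : Y ⟶ X) (hg : g ≫ f = 𝟙 Y)

include hg

/-- Generizations lift, after any base change, at the points over `X⁰_y`. -/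
theorem exists_lift [LocallyOfFiniteType f] (y : Y)
    (hgi : ∀ (K : Type u) [Field K] [Algebra (IsLocalRing.ResidueField (Y.presheaf.stalk y)) K],
      IsIrreducible ((FBase.bcπ (f.fiberToSpecResidueField y) K ≫ f.fiberι y).base ⁻¹'
        (connectedComponentIn (f.base ⁻¹' {y}) (g.base y))))
    (hd : ∀ z : Y, z ⤳ y → FlatMor.fibreDimAt f (g y) ≤ FlatMor.fibreDimAt f (g z))
    {P T : Scheme.{u}} {p : P ⟶ X} {q : P ⟶ T} {φ : T ⟶ Y} (hP : IsPullback p q f φ)
    (x' : P) (hx' : p x' ∈ connectedComponentIn (f ⁻¹' {y}) (g y)) (η : T) (hη : η ⤳ q x') :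
    ∃ ζ : P, ζ ⤳ x' ∧ q ζ = η := by
  have hfg : ∀ z, f (g z) = z := SecComp.apply_apply f g hg
  have hfx : f (p x') = y := connectedComponentIn_subset (f ⁻¹' {y}) (g y) hx'
  have hq : LocallyOfFiniteType q := MorphismProperty.of_isPullback hP inferInstance
  let s : T ⟶ P := hP.lift (φ ≫ g) (𝟙 _) (by
    rw [Category.assoc, hg, Category.comp_id, Category.id_comp])
  have hs1 : s ≫ p = φ ≫ g := hP.lift_fst _ _ _
  have hs2 : s ≫ q = 𝟙 _ := hP.lift_snd _ _ _
  have hsp : ∀ t, p (s t) = g (φ t) := fun t => by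
    rw [← Scheme.Hom.comp_apply, hs1, Scheme.Hom.comp_apply]
  have hsq : ∀ t, q (s t) = t := fun t => by
    rw [← Scheme.Hom.comp_apply, hs2]; rfl
  have hcomm : ∀ w, f (p w) = φ (q w) := fun w => by
    rw [← Scheme.Hom.comp_apply, ← Scheme.Hom.comp_apply, hP.w]
  set m : T := q x' with hm
  have hφm : φ m = y := by rw [hm, ← hcomm, hfx]
  obtain ⟨⟨O, hO, hCO⟩, ⟨F, hF, hCF⟩⟩ := exists_open_closed f y (g y) (hfg _)
  -- the part `D` of the fibre over `m`
  let C : Set X := connectedComponentIn (f ⁻¹' {y}) (g y)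
  let D : Set P := ov p q C m
  have hDirr : IsIrreducible D := by
    have h1 := isIrreducible_ov hP m C (by
      intro K _ _
      subst hφm
      exact hgi K)
    exact h1
  have hgC : g y ∈ C := SecComp.mem_comp f g hg y
  have hsmD : s m ∈ D := ⟨hsq m, by rw [hsp, hφm]; exact hgC⟩
  have hx'D : x' ∈ D := ⟨rfl, hx'⟩
  have hDF : D = p ⁻¹' F ∩ q ⁻¹' {m} := by
    ext w
    constructor
    · rintro ⟨h1, h2⟩
      have h3 : p w ∈ F ∩ f ⁻¹' {y} := by rw [← hCF]; exact h2
      exact ⟨h3.1, h1⟩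
    · rintro ⟨h1, h2⟩
      have h2' : q w = m := h2
      refine ⟨h2', ?_⟩
      change p w ∈ connectedComponentIn (f ⁻¹' {y}) (g y)
      rw [hCF]
      refine ⟨h1, ?_⟩
      change f (p w) = y
      rw [hcomm, h2', hφm]
  obtain ⟨δ, hδD, hδc⟩ := exists_generic_mem q hDirr (hF.preimage p.continuous) hDF
  have hδ : ∀ w ∈ D, δ ⤳ w := fun w hw => by
    rw [specializes_iff_mem_closure, hδc]; exact subset_closure hw
  -- dimensions
  obtain ⟨n, hn⟩ := Ega43.FibreDimFinite.exists_fibreDimAt_eq f (g y)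
  have hnm : FlatMor.fibreDimAt q (s m) = n := by
    rw [fibreDimAt_of_isPullback hP, hsp, hφm, hn]
  have hδn : rtd q δ ≤ n := rtd_le_of_fibreDimAt q (hδ _ hsmD) (by rw [hδD.1, hsq]) hnm.le
  have hzy : φ η ⤳ y := by rw [← hφm]; exact hη.map φ.continuous
  obtain ⟨ζ, hζ1, hζ2, -, n', hζn, hn'⟩ := exists_fibGeneric_rtd_eq q (s η)
  have hnn' : n ≤ n' := by
    have h1 := hd _ hzy
    rw [hn] at h1
    rw [fibreDimAt_of_isPullback hP, hsp] at hn'
    rw [hn'] at h1
    exact_mod_cast h1
  have hζsm : ζ ⤳ s m := hζ1.trans (hη.map s.continuous)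
  obtain ⟨w, hζw, hwsm, hqw, hle⟩ := RtdChev.exists_rtd_ge q hζsm
  have hwD : w ∈ D := by
    have hqwm : q w = m := by rw [hqw, hsq]
    refine ⟨hqwm, ?_⟩
    have h1 : p w ∈ O := by
      have h2 : p (s m) ∈ O ∩ f ⁻¹' {y} := by rw [← hCO]; exact hsmD.2
      exact (hwsm.map p.continuous).mem_open hO h2.1
    change p w ∈ connectedComponentIn (f ⁻¹' {y}) (g y)
    rw [hCO]
    refine ⟨h1, ?_⟩
    change f (p w) = y
    rw [hcomm, hqwm, hφm]
  have hwδ : δ = w := by
    by_contra hne
    have h1 := rtd_lt_of_specializes q (hδ w hwD) hne (by rw [hδD.1, hwD.1])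
    have h2 : (n : Cardinal.{u}) ≤ rtd q w := by
      refine le_trans ?_ hle
      rw [hζn]
      exact_mod_cast hnn'
    exact absurd (h1.trans_le hδn) (not_lt.mpr h2)
  refine ⟨ζ, ?_, by rw [hζ2, hsq]⟩
  rw [← hwδ] at hζw
  exact hζw.trans (hδ x' hx'D)

/-- Universal openness at the points of `X⁰_y`. -/
theorem isUnivOpenAt [LocallyOfFinitePresentation f] (y : Y)
    (hgi : ∀ (K : Type u) [Field K] [Algebra (IsLocalRing.ResidueField (Y.presheaf.stalk y)) K],
      IsIrreducible ((FBase.bcπ (f.fiberToSpecResidueField y) K ≫ f.fiberι y).base ⁻¹'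
        (connectedComponentIn (f.base ⁻¹' {y}) (g.base y))))
    (hd : ∀ z : Y, z ⤳ y → FlatMor.fibreDimAt f (g y) ≤ FlatMor.fibreDimAt f (g z))
    (x : X) (hx : x ∈ connectedComponentIn (f ⁻¹' {y}) (g y)) : EGA43.IsUnivOpenAt f x := by
  intro T φ x' hx'
  have hpx' : pullback.fst f φ x' = x := hx'
  refine Ega43.OpenAt.isOpenAt_of_forall_specializes (pullback.snd f φ) x' ?_
  intro U hxU η hη
  obtain ⟨ζ, hζ1, hζ2⟩ := exists_lift f g hg y hgi hd (IsPullback.of_hasPullback f φ) x'
    (by rw [hpx']; exact hx) η hη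
  exact ⟨ζ, hζ1.mem_open U.2 hxU, hζ2⟩

end K127.SecOpenAt
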