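import Groth.Agent.S2561
import Groth.Agent.EGA43.K127.SecOpenAt
import Groth.Agent.EGA43.K127.GeomIrr
import Groth.Agent.EGA43.K127.SecFlat
import Groth.Agent.EGA43.K127.GeomFib
import Groth.Agent.Flat2D.FlatAtPt

/-!
# Flatness along a section component

Let `f : X ⟶ Y` have a section `g`, `x₀ ∈ X⁰`, `y = f x₀`.  Suppose `X⁰_y` is geometrically irreducible, the
dimension of the fibre at `g z` is at least the dimension of the fibre at `g y` for all generizations `z` of
`y`, the fibre is geometrically reduced at `x₀` and `O_{Y,y}` is reduced.  Then `f` is flat at `x₀`, if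
either `Y` is locally Noetherian and `f` locally of finite type, or `f` is of finite presentation.
-/

set_option autoImplicit false
open CategoryTheory AlgebraicGeometry Limits TopologicalSpace Topology
universe u

namespace K127.SecFlatFP

open Groth.Agent Groth.Agent.Ega4Fib.H176.SecDvr Groth.Agent.CycB.RelDim
open Groth.Agent.Ega4fib.H172.FibDimBC Groth.Agent.Ega43.GeomAt Groth.Agent.Ega4fib.H141.SecDvr
open K127.GeomIrred

variable {X Y : Scheme.{u}}

/-- The locally Noetherian case. -/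
theorem flat_of_isLocallyNoetherian [IsLocallyNoetherian Y] (f : X ⟶ Y) [LocallyOfFiniteType f]
    (g : Y ⟶ X) (hg : g ≫ f = 𝟙 Y) (x₀ : X) (hx₀ : x₀ ∈ MoreMor.sectionComponents f g)
    (hgi : GeomIrr f (f x₀) (MoreMor.sectionComponents f g))
    (hd : ∀ z : Y, z ⤳ f x₀ →
      FlatMor.fibreDimAt f (g (f x₀)) ≤ FlatMor.fibreDimAt f (g z))
    (hred : GeomAt PRed f x₀) (hy : _root_.IsReduced (Y.presheaf.stalk (f x₀))) :
    (f.stalkMap x₀).hom.Flat := by
  have hlfp : LocallyOfFinitePresentation f := inferInstance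
  have hgi' := (geomIrr_iff (f := f) (f x₀) _).mp ((geomIrr_sectionComponents_iff g _).mpr hgi)
  refine S2561.result f x₀ ?_ ((geomAt_fiber_iff isoClosed_pRed f x₀).mpr hred) hy
  intro z hz _
  refine SecOpenAt.isUnivOpenAt f g hg (f x₀) hgi' hd _ ?_
  have h1 : (f.fiberι (f x₀)) z ⤳ x₀ := by
    have h2 := (specializes_iff_mem_closure.mpr hz).map (f.fiberι (f x₀)).continuous
    rwa [f.fiberι_asFiber] at h2
  have h3 : f ((f.fiberι (f x₀)) z) = f x₀ := Flat2D.FiberStalk.apply_fiberι f _ z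
  obtain ⟨⟨O, hO, hCO⟩, -⟩ := exists_open_closed f (f x₀) (g (f x₀)) (SecComp.apply_apply f g hg _)
  have h4 : x₀ ∈ connectedComponentIn (f ⁻¹' {f x₀}) (g (f x₀)) := hx₀
  rw [hCO] at h4 ⊢
  exact ⟨h1.mem_open hO h4.1, h3⟩

/-- Flatness at a point descends along a flat base change. -/
theorem flat_of_flat_baseChange {P T : Scheme.{u}} {f : X ⟶ Y} {p : P ⟶ X} {q : P ⟶ T} {φ : T ⟶ Y}
    (hP : IsPullback p q f φ) [Flat φ] (w : P) (h : (q.stalkMap w).hom.Flat) :
    (f.stalkMap (p w)).hom.Flat := by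
  have hp : Flat p := MorphismProperty.of_isPullback hP.flip inferInstance
  refine Flat2D.FlatAtPt.flat_stalkMap_of_comp p f w ?_ (Flat.stalkMap p w)
  have h1 := Flat2D.FlatAtPt.flat_stalkMap_comp q φ w h (Flat.stalkMap φ (q w))
  have h2 : p ≫ f = q ≫ φ := hP.w
  rw [h2]
  exact h1

/-- The case of a local base. -/
theorem flat_of_local (A : Type u) [CommRing A] [IsLocalRing A] [_root_.IsReduced A]
    (f : X ⟶ Spec (CommRingCat.of A))
    [LocallyOfFinitePresentation f] [QuasiCompact f] [QuasiSeparated f]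
    (g : Spec (CommRingCat.of A) ⟶ X) (hg : g ≫ f = 𝟙 _) (x₀ : X)
    (hx₀ : x₀ ∈ MoreMor.sectionComponents f g)
    (hgi : GeomIrr f (f x₀) (MoreMor.sectionComponents f g))
    (hd : ∀ z : Spec (CommRingCat.of A),
      FlatMor.fibreDimAt f (g (f x₀)) ≤ FlatMor.fibreDimAt f (g z))
    (hred : GeomAt PRed f x₀) :
    (f.stalkMap x₀).hom.Flat := by
  have i1 : ∀ i, CompactSpace ((Flat2D.SpecFGLimit.specDiagram A).obj i) := fun i => inferInstance
  have i2 : ∀ i, QuasiSeparatedSpace ((Flat2D.SpecFGLimit.specDiagram A).obj i) :=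
    fun i => inferInstance
  have i3 : LocallyOfFinitePresentation (Y := (Flat2D.SpecFGLimit.specCone A).pt) f := ‹_›
  have i4 : QuasiCompact (Y := (Flat2D.SpecFGLimit.specCone A).pt) f := ‹_›
  have i5 : QuasiSeparated (Y := (Flat2D.SpecFGLimit.specCone A).pt) f := ‹_›
  obtain ⟨j, X₀, f₀, g', s₀, h1, h2, h3, h4, h5, h6⟩ := Flat2D.ApproxSection.exists_model_section
    (Flat2D.SpecFGLimit.specDiagram A) (Flat2D.SpecFGLimit.specCone A)
    (Flat2D.SpecFGLimit.isLimitSpecCone A) X f g hg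
  let B : Type u := j.unop.1
  let ι : B →+* A := algebraMap j.unop.1 A
  have hι : Function.Injective ι := Subtype.val_injective
  let φ : Spec (CommRingCat.of A) ⟶ Spec (CommRingCat.of B) := Spec.map (CommRingCat.ofHom ι)
  have hφ : (Flat2D.SpecFGLimit.specCone A).π.app j = φ := rfl
  have hB : _root_.IsReduced B := isReduced_of_injective ι hι
  have hBN : IsNoetherianRing B := inferInstance
  change X₀ ⟶ Spec (CommRingCat.of B) at f₀
  change Spec (CommRingCat.of B) ⟶ X₀ at s₀
  have h4' : IsPullback g' f f₀ φ := h4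
  have h5' : s₀ ≫ f₀ = 𝟙 (Spec (CommRingCat.of B)) := h5
  have h6' : g ≫ g' = φ ≫ s₀ := h6
  have h1' : LocallyOfFinitePresentation f₀ := h1
  have hcomm : ∀ w, f₀ (g' w) = φ (f w) := fun w => by
    rw [← Scheme.Hom.comp_apply, ← Scheme.Hom.comp_apply, h4'.w]
  have hsec : ∀ t, g' (g t) = s₀ (φ t) := fun t => by
    rw [← Scheme.Hom.comp_apply, ← Scheme.Hom.comp_apply, h6']
  have hpre := Groth.Agent.S1324.result f₀ s₀ h5' f g' φ h4' g hg h6'
  have hdim : ∀ t, FlatMor.fibreDimAt f (g t) = FlatMor.fibreDimAt f₀ (s₀ (φ t)) := fun t => by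
    rw [fibreDimAt_of_isPullback h4', hsec]
  have hflat : (f₀.stalkMap (g' x₀)).hom.Flat := by
    have hmem : g' x₀ ∈ MoreMor.sectionComponents f₀ s₀ := by
      rw [hpre] at hx₀
      exact hx₀
    refine flat_of_isLocallyNoetherian f₀ s₀ h5' (g' x₀) hmem ?_ ?_ ?_ ?_
    · rw [hcomm]
      refine GeomIrr.of_baseChange h4' (f x₀) ?_
      rw [← hpre]
      exact hgi
    · intro z hz
      rw [hcomm] at hz ⊢
      -- a minimal prime below `z`
      obtain ⟨𝔭, h𝔭, h𝔭z⟩ := Ideal.exists_minimalPrimes_le (I := (⊥ : Ideal B))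
        (J := z.asIdeal) bot_le
      obtain ⟨𝔮, h𝔮, h𝔮c⟩ := Ideal.exists_comap_eq_of_mem_minimalPrimes_of_injective hι 𝔭 h𝔭
      let η : Spec (CommRingCat.of A) := (⟨𝔮, h𝔮⟩ : PrimeSpectrum A)
      have hη : φ η ⤳ z := by
        refine (PrimeSpectrum.le_iff_specializes _ _).mp ?_
        change Ideal.comap ι 𝔮 ≤ z.asIdeal
        rw [h𝔮c]
        exact h𝔭z
      have e1 := hd η
      rw [hdim, hdim] at e1
      refine e1.trans ?_
      obtain ⟨e, he⟩ := Ega43.FibreDimFinite.exists_fibreDimAt_eq f₀ (s₀ z)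
      have e2 : s₀ (φ η) ∈ {x : X₀ | FlatMor.fibreDimAt f₀ x ≤ e} :=
        (hη.map s₀.continuous).mem_open (S0402.result f₀ e) he.le
      rw [he]
      exact e2
    · exact (SecFlat.geomAt_iff h4' x₀).mp hred
    · have : IsReduced (Spec (CommRingCat.of B)) := inferInstance
      infer_instance
  exact Flat2D.FlatAtPt.flat_stalkMap_of_isPullback h4' x₀ hflat

/-- The case of a morphism of finite presentation. -/
theorem flat_of_finitePresentation (f : X ⟶ Y)
    [LocallyOfFinitePresentation f] [QuasiCompact f] [QuasiSeparated f]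
    (g : Y ⟶ X) (hg : g ≫ f = 𝟙 Y) (x₀ : X) (hx₀ : x₀ ∈ MoreMor.sectionComponents f g)
    (hgi : GeomIrr f (f x₀) (MoreMor.sectionComponents f g))
    (hd : ∀ z : Y, z ⤳ f x₀ →
      FlatMor.fibreDimAt f (g (f x₀)) ≤ FlatMor.fibreDimAt f (g z))
    (hred : GeomAt PRed f x₀) (hy : _root_.IsReduced (Y.presheaf.stalk (f x₀))) :
    (f.stalkMap x₀).hom.Flat := by
  let A : Type u := Y.presheaf.stalk (f x₀)
  let φ : Spec (CommRingCat.of A) ⟶ Y := Y.fromSpecStalk (f x₀)
  have hφflat : Flat φ := Ega43.StalkPull.flat_fromSpecStalk Y (f x₀)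
  let m : Spec (CommRingCat.of A) := IsLocalRing.closedPoint A
  have hφm : φ m = f x₀ := Scheme.fromSpecStalk_closedPoint
  obtain ⟨w, hw1, hw2⟩ := Scheme.Pullback.exists_preimage_pullback (f := f) (g := φ) x₀ m hφm.symm
  let p : pullback f φ ⟶ X := pullback.fst f φ
  let q : pullback f φ ⟶ Spec (CommRingCat.of A) := pullback.snd f φ
  have hP : IsPullback p q f φ := IsPullback.of_hasPullback f φ
  let s : Spec (CommRingCat.of A) ⟶ pullback f φ := pullback.lift (φ ≫ g) (𝟙 _) (by
    rw [Category.assoc, hg, Category.comp_id, Category.id_comp])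
  have hs1 : s ≫ p = φ ≫ g := pullback.lift_fst _ _ _
  have hs2 : s ≫ q = 𝟙 _ := pullback.lift_snd _ _ _
  have hsp : ∀ t, p (s t) = g (φ t) := fun t => by
    rw [← Scheme.Hom.comp_apply, hs1, Scheme.Hom.comp_apply]
  have hpre := Groth.Agent.S1324.result f g hg q p φ hP s hs2 hs1
  have hpw : p w = x₀ := hw1
  have hqw : q w = m := hw2
  have hloc : IsLocalRing A := inferInstance
  have hredA : _root_.IsReduced A := hy
  have hspec : ∀ t : Spec (CommRingCat.of A), φ t ⤳ f x₀ := fun t =>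
    ((IsLocalRing.specializes_closedPoint (R := A) t).map φ.continuous).trans
      (specializes_of_eq hφm)
  have hflat : (q.stalkMap w).hom.Flat := by
    refine flat_of_local A q s hs2 w ?_ ?_ ?_ ?_
    · rw [hpre]
      change p w ∈ MoreMor.sectionComponents f g
      rw [hpw]
      exact hx₀
    · rw [hqw, hpre]
      refine GeomIrr.baseChange hP m ?_
      rw [hφm]
      exact hgi
    · intro z
      rw [fibreDimAt_of_isPullback hP, fibreDimAt_of_isPullback hP, hsp, hsp, hqw, hφm]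
      exact hd _ (hspec z)
    · rw [SecFlat.geomAt_iff hP w, hpw]
      exact hred
  have h1 := flat_of_flat_baseChange hP w hflat
  rwa [hpw] at h1

end K127.SecFlatFP
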