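import Groth.Agent.EGA43.K127.GeomIrr
import Groth.Agent.EGA43.K127.SecComp
import Groth.Agent.Dual.H316.FibDim
import Groth.Agent.Ega43.GeomAt
import Groth.Agent.Ega4fib.H141.SecDvr

/-!
# Section components of an open subscheme

For a morphism `f : X ⟶ Y` with a section `g` such that all `X⁰_y` are irreducible and open subschemes
`U ⟶ X`, `V ⟶ Y` with a compatible section, the section components of `U ⟶ V` are the traces of
those of `f`.

* `sectionComponents_eq`, `GeomIrr.restrict`;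
* `exists_restrict`: quasi-compact neighbourhoods over an affine open subset of a locally Noetherian base.
-/

set_option autoImplicit false
open CategoryTheory AlgebraicGeometry Limits TopologicalSpace Topology
universe u

namespace K127.SecRestr

open Groth.Agent Groth.Agent.Ega43.GeomAt Groth.Agent.Ega4fib.H141.SecDvr
open K127.GeomIrred

section

variable {U V X Y : Scheme.{u}} (j : U ⟶ X) [IsOpenImmersion j] (i : V ⟶ Y) [IsOpenImmersion i]
  (f : X ⟶ Y) (f' : U ⟶ V) (h : f' ≫ i = j ≫ f) (g : Y ⟶ X) (g' : V ⟶ U)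
  (hg1 : g' ≫ j = i ≫ g) (hg2 : g' ≫ f' = 𝟙 V)

include h hg1 hg2

/-- The section components of an open subscheme. -/
theorem sectionComponents_eq
    (hirr : ∀ y, IsIrreducible (connectedComponentIn (f ⁻¹' {y}) (g y))) :
    MoreMor.sectionComponents f' g' = j ⁻¹' MoreMor.sectionComponents f g := by
  have hif' : ∀ w, i (f' w) = f (j w) := fun w => by
    rw [← Scheme.Hom.comp_apply, h, Scheme.Hom.comp_apply]
  have hjg' : ∀ v, j (g' v) = g (i v) := fun v => by
    rw [← Scheme.Hom.comp_apply, hg1, Scheme.Hom.comp_apply]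
  have hf'g' : ∀ v, f' (g' v) = v := SecComp.apply_apply f' g' hg2
  refine Set.Subset.antisymm (fun u hu => map_mem_sectionComponents j i f f' h g g' hg1 hg2 hu) ?_
  intro u hu
  have hu' : j u ∈ connectedComponentIn (f ⁻¹' {f (j u)}) (g (f (j u))) := hu
  have hC := (hirr (f (j u))).isPreirreducible.preimage j.isOpenEmbedding
  have hsub : j ⁻¹' connectedComponentIn (f ⁻¹' {f (j u)}) (g (f (j u))) ⊆ f' ⁻¹' {f' u} := by
    intro w hw
    have h1 : f (j w) = f (j u) :=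
      connectedComponentIn_subset (f ⁻¹' {f (j u)}) (g (f (j u))) hw
    rw [← hif', ← hif'] at h1
    exact i.isOpenEmbedding.injective h1
  have hmem : g' (f' u) ∈ j ⁻¹' connectedComponentIn (f ⁻¹' {f (j u)}) (g (f (j u))) := by
    rw [Set.mem_preimage, hjg', hif']
    have hne : (connectedComponentIn (f ⁻¹' {f (j u)}) (g (f (j u)))).Nonempty := ⟨_, hu'⟩
    exact mem_connectedComponentIn (connectedComponentIn_nonempty_iff.mp hne)
  exact hC.isPreconnected.subset_connectedComponentIn hmem hsub hu'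

/-- Geometric irreducibility of the trace on an open subscheme. -/
theorem geomIrr_preimage {C : Set X} {v : V} (hv : g (i v) ∈ C) (hC : GeomIrr f (i v) C) :
    GeomIrr f' v (j ⁻¹' C) := by
  intro K _ Z a b jK hZ hj
  have hjg' : ∀ v, j (g' v) = g (i v) := fun v => by
    rw [← Scheme.Hom.comp_apply, hg1, Scheme.Hom.comp_apply]
  let Z₁ := pullback f (jK ≫ i)
  let a₁ : Z₁ ⟶ X := pullback.fst f (jK ≫ i)
  let b₁ : Z₁ ⟶ Spec (CommRingCat.of K) := pullback.snd f (jK ≫ i)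
  have hZ₁ : IsPullback a₁ b₁ f (jK ≫ i) := IsPullback.of_hasPullback _ _
  have hZ' : IsPullback a b (j ≫ f) (jK ≫ i) := by
    rw [← h]
    exact (isPullback_comp_mono_iff i).2 hZ
  let k : Z ⟶ Z₁ := hZ₁.lift (a ≫ j) b (by rw [Category.assoc]; exact hZ'.w)
  have hk1 : k ≫ a₁ = a ≫ j := hZ₁.lift_fst _ _ _
  have hk2 : k ≫ b₁ = b := hZ₁.lift_snd _ _ _
  have hk : IsPullback k a a₁ j := by
    refine IsPullback.of_right (h₁₂ := b₁) (h₂₂ := f) (v₁₃ := jK ≫ i) ?_ hk1 hZ₁.flip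
    rw [hk2]
    exact hZ'.flip
  have hkop : IsOpenImmersion k := MorphismProperty.of_isPullback hk.flip inferInstance
  have h1 := hC K Z₁ a₁ b₁ (jK ≫ i) hZ₁ fun t => by rw [Scheme.Hom.comp_apply, hj]
  have h2 := h1.isPreirreducible.preimage k.isOpenEmbedding
  have h3 : a ⁻¹' (j ⁻¹' C) = k ⁻¹' (a₁ ⁻¹' C) := by
    ext z
    change j (a z) ∈ C ↔ a₁ (k z) ∈ C
    rw [← Scheme.Hom.comp_apply, ← hk1, Scheme.Hom.comp_apply]
  rw [h3]
  refine ⟨?_, h2⟩
  rw [← h3]
  let σ : Spec (CommRingCat.of K) ⟶ Z := hZ.lift (jK ≫ g') (𝟙 _) (by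
    rw [Category.assoc, hg2, Category.comp_id, Category.id_comp])
  have hσ : σ ≫ a = jK ≫ g' := hZ.lift_fst _ _ _
  refine ⟨σ (IsLocalRing.closedPoint K), ?_⟩
  change j (a (σ _)) ∈ C
  rw [← Scheme.Hom.comp_apply σ a, hσ, Scheme.Hom.comp_apply, hj, hjg']
  exact hv

end

/-- Restriction to quasi-compact open subschemes over a locally Noetherian base. -/
theorem exists_restrict {X Y : Scheme.{u}} [IsLocallyNoetherian Y] (f : X ⟶ Y)
    [LocallyOfFiniteType f] (g : Y ⟶ X) (hg : g ≫ f = 𝟙 Y) (x : X) :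
    ∃ (U V : Scheme.{u}) (j : U ⟶ X) (i : V ⟶ Y) (f' : U ⟶ V) (g' : V ⟶ U),
      IsOpenImmersion j ∧ IsOpenImmersion i ∧ f' ≫ i = j ≫ f ∧ g' ≫ j = i ≫ g ∧ g' ≫ f' = 𝟙 V ∧
      x ∈ Set.range j ∧ f x ∈ Set.range i ∧ QuasiCompact f' ∧ QuasiSeparated f' ∧
      LocallyOfFinitePresentation f' := by
  have hfg : ∀ z, f (g z) = z := SecComp.apply_apply f g hg
  obtain ⟨V₀, hV₀, hxV₀, -⟩ := exists_isAffineOpen_mem_and_subset
    (U := (⊤ : Y.Opens)) (x := f x) trivial
  obtain ⟨A, hA, hxA, hAV⟩ := exists_isAffineOpen_mem_and_subset (U := f ⁻¹ᵁ V₀) (x := x) hxV₀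
  obtain ⟨B, hB, hxB, hBV⟩ := exists_isAffineOpen_mem_and_subset (U := f ⁻¹ᵁ V₀) (x := g (f x))
    (show f (g (f x)) ∈ V₀ by rw [hfg]; exact hxV₀)
  obtain ⟨V, hV, hxV, hVV⟩ := exists_isAffineOpen_mem_and_subset (U := V₀ ⊓ g ⁻¹ᵁ (A ⊔ B))
    (x := f x) ⟨hxV₀, Or.inr hxB⟩
  let U : X.Opens := (A ⊔ B) ⊓ f ⁻¹ᵁ V
  have hXN : IsLocallyNoetherian X := LocallyOfFiniteType.isLocallyNoetherian f
  have hABc : IsCompact ((A ⊔ B : X.Opens) : Set X) := by
    rw [Opens.coe_sup]
    exact hA.isCompact.union hB.isCompact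
  have hABc' : CompactSpace ↥(A ⊔ B : X.Opens) := isCompact_iff_compactSpace.mp hABc
  have hABN : IsNoetherian ((A ⊔ B : X.Opens) : Scheme.{u}) :=
    { toIsLocallyNoetherian := inferInstance, toCompactSpace := hABc' }
  have hUc : IsCompact (U : Set X) := by
    have h1 : NoetherianSpace ↥(A ⊔ B : X.Opens) := inferInstanceAs
      (NoetherianSpace ((A ⊔ B : X.Opens) : Scheme.{u}))
    have h2 : IsCompact ((↑) ⁻¹' (U : Set X) : Set ↥(A ⊔ B : X.Opens)) :=
      NoetherianSpace.isCompact _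
    have h3 := h2.image continuous_subtype_val
    convert h3 using 1
    ext z
    constructor
    · intro hz
      exact ⟨⟨z, hz.1⟩, hz, rfl⟩
    · rintro ⟨w, hw, rfl⟩
      exact hw
  have hUc' : CompactSpace (U : Scheme.{u}) := isCompact_iff_compactSpace.mp hUc
  have hVaff : IsAffine (V : Scheme.{u}) := hV
  have hUN : IsLocallyNoetherian (U : Scheme.{u}) := inferInstance
  have hfU : Set.range (U.ι ≫ f) ⊆ Set.range V.ι := by
    rintro _ ⟨w, rfl⟩
    rw [Scheme.Opens.range_ι]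
    exact w.2.2
  let f' : (U : Scheme.{u}) ⟶ V := IsOpenImmersion.lift V.ι (U.ι ≫ f) hfU
  have hf' : f' ≫ V.ι = U.ι ≫ f := IsOpenImmersion.lift_fac _ _ _
  have hgV : Set.range (V.ι ≫ g) ⊆ Set.range U.ι := by
    rintro _ ⟨w, rfl⟩
    rw [Scheme.Opens.range_ι]
    refine ⟨(hVV w.2).2, ?_⟩
    change f (g (V.ι w)) ∈ V
    rw [hfg]
    exact w.2
  let g' : (V : Scheme.{u}) ⟶ U := IsOpenImmersion.lift U.ι (V.ι ≫ g) hgV
  have hg' : g' ≫ U.ι = V.ι ≫ g := IsOpenImmersion.lift_fac _ _ _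
  have hgf' : g' ≫ f' = 𝟙 _ := by
    rw [← cancel_mono V.ι, Category.assoc, hf', reassoc_of% hg', hg, Category.id_comp,
      Category.comp_id]
  have hft : LocallyOfFiniteType f' := by
    have : LocallyOfFiniteType (f' ≫ V.ι) := by rw [hf']; infer_instance
    exact locallyOfFiniteType_of_comp f' V.ι
  refine ⟨U, V, U.ι, V.ι, f', g', inferInstance, inferInstance, hf', hg', hgf', ?_, ?_, ?_, ?_, ?_⟩
  · rw [Scheme.Opens.range_ι]
    exact ⟨Or.inl hxA, hxV⟩
  · rw [Scheme.Opens.range_ι]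
    exact hxV
  · infer_instance
  · infer_instance
  · infer_instance

end K127.SecRestr
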