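import Groth.Agent.EGA43.K127.SecDimGe
import Groth.Agent.EGA43.K127.SecFlatFP
import Groth.Agent.EGA43.K127.SecRestr
import Groth.Agent.S0386
import Groth.Agent.S1326
import Groth.Agent.S2549
import Groth.Agent.Flat2D.ConstrGen
import Groth.Agent.Ega1.ReducedSub

/-!
# Generizations of points of `X⁰` where the fibre is geometrically reduced

* `isOpen_flat_geomAt`: the locus of flatness with geometrically reduced fibre is open;
* `exists_lift_mem`: a point of `X⁰_z` specializing to all points of `X⁰_y`;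
* `mem_of_specializes`: `X⁰` is stable under generizations at a point where `f` is flat with geometrically
  reduced fibre, if the dimension of `X⁰_y` does not drop and `X⁰_y` is geometrically irreducible.
-/

set_option autoImplicit false
open CategoryTheory AlgebraicGeometry Limits TopologicalSpace Topology
universe u

namespace K127.SecGen

open Groth.Agent Groth.Agent.Ega4Fib.H176.SecDvr Groth.Agent.CycB.RelDim
open Groth.Agent.Ega4fib.H172.FibDimBC Groth.Agent.Ega43.GeomAt Groth.Agent.Ega4fib.H141.SecDvr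
open K127.GeomIrred

/-- The reduced closed subscheme with the same underlying space. -/
theorem exists_red (W : Scheme.{u}) : ∃ (Z : Scheme.{u}) (r : Z ⟶ W), IsClosedImmersion r ∧
    Surjective r ∧ AlgebraicGeometry.IsReduced Z := by
  refine ⟨(Scheme.IdealSheafData.vanishingIdeal (⊤ : Closeds W)).subscheme,
    (Scheme.IdealSheafData.vanishingIdeal (⊤ : Closeds W)).subschemeι, inferInstance, ⟨?_⟩,
    Ega1.ReducedSub.isReduced_subscheme_vanishingIdeal _⟩
  intro x
  have h : Set.range (Scheme.IdealSheafData.vanishingIdeal (⊤ : Closeds W)).subschemeι = Set.univ := by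
    rw [Scheme.IdealSheafData.range_subschemeι]
    exact Scheme.IdealSheafData.coe_support_vanishingIdeal _
  have hx : x ∈ Set.range (Scheme.IdealSheafData.vanishingIdeal (⊤ : Closeds W)).subschemeι := by
    rw [h]
    trivial
  exact hx

/-- The locus of flatness with geometrically reduced fibre is open. -/
theorem isOpen_flat_geomAt {X Y : Scheme.{u}} (f : X ⟶ Y) [LocallyOfFinitePresentation f] :
    IsOpen {x : X | (f.stalkMap x).hom.Flat ∧ GeomAt PRed f x} := by
  let W : X.Opens := ⟨{x : X | (f.stalkMap x).hom.Flat}, S0386.result f⟩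
  have hW : Flat (W.ι ≫ f) := by
    refine Flat.of_stalkMap _ fun w ↦ ?_
    rw [Ega43.CMOpen.flat_stalkMap_comp_iff]
    exact w.2
  have h := S2549.result (W.ι ≫ f)
  have h2 := W.ι.isOpenEmbedding.isOpenMap _ h
  convert h2 using 1
  ext x
  constructor
  · rintro ⟨hx, hPx⟩
    refine ⟨⟨x, hx⟩, ?_, rfl⟩
    refine (geomAt_fiber_iff isoClosed_pRed (W.ι ≫ f) _).mpr ?_
    rw [geomAt_comp_openImmersion isoClosed_pRed]
    exact hPx
  · rintro ⟨w, hw, rfl⟩
    have hw' := (geomAt_fiber_iff isoClosed_pRed (W.ι ≫ f) _).mp hw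
    rw [geomAt_comp_openImmersion isoClosed_pRed] at hw'
    exact ⟨w.2, hw'⟩

variable {X Y : Scheme.{u}} (f : X ⟶ Y) (g : Y ⟶ X) (hg : g ≫ f = 𝟙 Y)

include hg

/-- A point of `X⁰_z` specializing to all points of `X⁰_y`. -/
theorem exists_lift_mem [LocallyOfFiniteType f] {y z : Y}
    (hirr : IsIrreducible (connectedComponentIn (f ⁻¹' {y}) (g y))) (h : z ⤳ y)
    (hd : FlatMor.fibreDimAt f (g y) ≤ FlatMor.fibreDimAt f (g z)) :
    ∃ ζ ∈ MoreMor.sectionComponents f g, f ζ = z ∧
      ∀ x ∈ connectedComponentIn (f ⁻¹' {y}) (g y), ζ ⤳ x := by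
  have hfg : ∀ z, f (g z) = z := SecComp.apply_apply f g hg
  obtain ⟨ξ, hξC, hξ, hξgen, n, hn1, hn2⟩ := SecDimGe.exists_generic f g hg y hirr
  have hfξ : f ξ = y := connectedComponentIn_subset (f ⁻¹' {y}) (g y) hξC
  obtain ⟨ζ, hζ1, hζ2, -, n', hζn, hn'⟩ := exists_fibGeneric_rtd_eq f (g z)
  have hnn' : n ≤ n' := by
    rw [hn2, hn'] at hd
    exact_mod_cast hd
  have hζy : ζ ⤳ g y := hζ1.trans (h.map g.continuous)
  obtain ⟨w, hζw, hwy, hfw, hle⟩ := RtdChev.exists_rtd_ge f hζy
  have hmem : ∀ {w x : X} {y : Y}, w ⤳ x → f w = f x →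
      x ∈ connectedComponentIn (f ⁻¹' {y}) (g y) → w ∈ connectedComponentIn (f ⁻¹' {y}) (g y) := by
    intro w x y hwx hfw hx
    have hfx : f x = y := connectedComponentIn_subset (f ⁻¹' {y}) (g y) hx
    obtain ⟨⟨O, hO, hCO⟩, -⟩ := exists_open_closed f y (g y) (hfg _)
    rw [hCO] at hx ⊢
    exact ⟨hwx.mem_open hO hx.1, hfw.trans hfx⟩
  have hwC := hmem hwy hfw (SecComp.mem_comp f g hg y)
  have hwξ : ξ = w := by
    by_contra hne
    have h1 := rtd_lt_of_specializes f (hξ w hwC) hne (by rw [hfw, hfg, hfξ])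
    rw [hn1] at h1
    have h2 : (n : Cardinal.{u}) ≤ rtd f w := by
      refine le_trans ?_ hle
      rw [hζn]
      exact_mod_cast hnn'
    exact absurd h1 (not_lt.mpr h2)
  have hfζ : f ζ = z := by rw [hζ2, hfg]
  refine ⟨ζ, ?_, hfζ, fun x hx => ?_⟩
  · rw [← mem_sectionComponents_iff g hfζ]
    exact hmem hζ1 hζ2 (SecComp.mem_comp f g hg z)
  · rw [← hwξ] at hζw
    exact hζw.trans (hξ x hx)

/-- Stability of `X⁰` under generizations at a point where `f` is flat with geometrically reduced fibre. -/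
theorem mem_of_specializes [LocallyOfFinitePresentation f] {x₀ x : X} (hx : x ⤳ x₀)
    (hx₀ : x₀ ∈ MoreMor.sectionComponents f g)
    (hgi : GeomIrr f (f x₀) (MoreMor.sectionComponents f g))
    (hd : ∀ z, z ⤳ f x₀ → FlatMor.fibreDimAt f (g (f x₀)) ≤ FlatMor.fibreDimAt f (g z))
    (hflat : (f.stalkMap x₀).hom.Flat) (hred : GeomAt PRed f x₀) :
    x ∈ MoreMor.sectionComponents f g := by
  let a : Spec (X.presheaf.stalk x₀) ⟶ X := X.fromSpecStalk x₀
  let φ : Spec (X.presheaf.stalk x₀) ⟶ Y := a ≫ f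
  let m : Spec (X.presheaf.stalk x₀) := IsLocalRing.closedPoint (X.presheaf.stalk x₀)
  have ham : a m = x₀ := Scheme.fromSpecStalk_closedPoint
  obtain ⟨η, hη⟩ : ∃ η, a η = x := by
    have : x ∈ Set.range a := by
      rw [Scheme.range_fromSpecStalk]
      exact hx
    exact this
  have hηm : η ⤳ m := IsLocalRing.specializes_closedPoint _
  have hφm : φ m = f x₀ := by
    change (a ≫ f) m = _
    rw [Scheme.Hom.comp_apply, ham]
  let P := pullback f φ
  let p : P ⟶ X := pullback.fst f φ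
  let q : P ⟶ Spec (X.presheaf.stalk x₀) := pullback.snd f φ
  have hP : IsPullback p q f φ := IsPullback.of_hasPullback f φ
  have hcomm : ∀ w, f (p w) = φ (q w) := fun w => by
    rw [← Scheme.Hom.comp_apply, ← Scheme.Hom.comp_apply, hP.w]
  let s : Spec (X.presheaf.stalk x₀) ⟶ P := pullback.lift (φ ≫ g) (𝟙 _) (by
    rw [Category.assoc, hg, Category.comp_id, Category.id_comp])
  have hs1 : s ≫ p = φ ≫ g := pullback.lift_fst _ _ _
  have hs2 : s ≫ q = 𝟙 _ := pullback.lift_snd _ _ _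
  have hsp : ∀ t, p (s t) = g (φ t) := fun t => by
    rw [← Scheme.Hom.comp_apply, hs1, Scheme.Hom.comp_apply]
  have hsq : ∀ t, q (s t) = t := SecComp.apply_apply q s hs2
  let t : Spec (X.presheaf.stalk x₀) ⟶ P := pullback.lift a (𝟙 _) (by
    rw [Category.id_comp])
  have ht1 : t ≫ p = a := pullback.lift_fst _ _ _
  have ht2 : t ≫ q = 𝟙 _ := pullback.lift_snd _ _ _
  have htp : ∀ w, p (t w) = a w := fun w => by
    rw [← Scheme.Hom.comp_apply, ht1]
  have htq : ∀ w, q (t w) = w := SecComp.apply_apply q t ht2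
  have hpre := Groth.Agent.S1324.result f g hg q p φ hP s hs2 hs1
  have hφt : ∀ w, φ w ⤳ f x₀ := fun w => by
    have h1 := (IsLocalRing.specializes_closedPoint (R := X.presheaf.stalk x₀) w).map φ.continuous
    exact h1.trans (specializes_of_eq hφm)
  have hirrm : IsIrreducible (connectedComponentIn (q ⁻¹' {m}) (s m)) := by
    refine ((geomIrr_sectionComponents_iff s m).mpr ?_).isIrreducible
      (connectedComponentIn_subset _ _)
    rw [hpre]
    refine GeomIrr.baseChange hP m ?_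
    rw [hφm]
    exact hgi
  have hdm : FlatMor.fibreDimAt q (s m) ≤ FlatMor.fibreDimAt q (s η) := by
    rw [fibreDimAt_of_isPullback hP, hsp, hφm, fibreDimAt_of_isPullback hP, hsp]
    exact hd _ (hφt η)
  -- `t m` lies in the `s`-component
  have htmC : t m ∈ connectedComponentIn (q ⁻¹' {m}) (s m) := by
    rw [mem_sectionComponents_iff s (htq m), hpre]
    change p (t m) ∈ MoreMor.sectionComponents f g
    rw [htp, ham]
    exact hx₀
  obtain ⟨δ, hδC, hδ, hδgen, n, hn1, hn2⟩ := SecDimGe.exists_generic q s hs2 m hirrm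
  obtain ⟨ζ, hζmem, hqζ, hζ⟩ := exists_lift_mem q s hs2 hirrm hηm hdm
  have hδt : δ ⤳ t m := hδ _ htmC
  have hζδ : ζ ⤳ δ := hζ _ hδC
  -- the open set where `q` is flat with geometrically reduced fibre
  have hmem : (q.stalkMap (t m)).hom.Flat ∧ GeomAt PRed q (t m) := by
    constructor
    · refine Flat2D.FlatAtPt.flat_stalkMap_of_isPullback hP (t m) ?_
      rw [htp, ham]
      exact hflat
    · rw [SecFlat.geomAt_iff hP, htp, ham]
      exact hred
  obtain ⟨W, hW, htW, hWL⟩ := exists_isAffineOpen_mem_and_subset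
    (U := (⟨_, isOpen_flat_geomAt q⟩ : P.Opens)) (x := t m) hmem
  have hWaff : IsAffine (W : Scheme.{u}) := hW
  have htW' : ∀ w, t w ∈ W := fun w =>
    ((IsLocalRing.specializes_closedPoint (R := X.presheaf.stalk x₀) w).map t.continuous).mem_open
      W.2 htW
  have hWflat : Flat (W.ι ≫ q) := by
    refine Flat.of_stalkMap _ fun w ↦ ?_
    rw [Ega43.CMOpen.flat_stalkMap_comp_iff]
    exact (hWL w.2).1
  let t' : Spec (X.presheaf.stalk x₀) ⟶ W := IsOpenImmersion.lift W.ι t (by
    rintro _ ⟨w, rfl⟩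
    rw [Scheme.Opens.range_ι]
    exact htW' w)
  have ht' : t' ≫ W.ι = t := IsOpenImmersion.lift_fac _ _ _
  have ht'q : t' ≫ (W.ι ≫ q) = 𝟙 _ := by rw [reassoc_of% ht', ht2]
  have ht'ι : ∀ w, W.ι (t' w) = t w := fun w => by
    rw [← Scheme.Hom.comp_apply, ht']
  have hqc : IsAffineHom (W.ι ≫ q) := inferInstance
  have ht'mem : t' m ∈ MoreMor.sectionComponents (W.ι ≫ q) t' := by
    have h1 := SecComp.mem_comp (W.ι ≫ q) t' ht'q m
    rwa [mem_sectionComponents_iff t' (SecComp.apply_apply (W.ι ≫ q) t' ht'q m)] at h1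
  have hint : t' m ∈ interior (MoreMor.sectionComponents (W.ι ≫ q) t') := by
    refine SecFlat.mem_interior (W.ι ≫ q) t' ht'q (t' m) ?_ ht'mem
    intro z _ _
    rw [geomAt_comp_openImmersion isoClosed_pRed]
    exact (hWL z.2).2
  have hζt : ζ ⤳ t m := hζδ.trans hδt
  have hζW : ζ ∈ W := hζt.mem_open W.2 htW
  let ζ' : (W : Scheme.{u}) := ⟨ζ, hζW⟩
  have hζ't : ζ' ⤳ t' m := by
    rw [← W.ι.isEmbedding.isInducing.specializes_iff, ht'ι]
    exact hζt
  have hζint : ζ' ∈ MoreMor.sectionComponents (W.ι ≫ q) t' :=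
    interior_subset (hζ't.mem_open isOpen_interior hint)
  have hζt' : ζ ∈ MoreMor.sectionComponents q t :=
    map_mem_sectionComponents W.ι (𝟙 _) q (W.ι ≫ q) (by simp) t t' (by simp [ht']) ht'q hζint
  rw [← mem_sectionComponents_iff t hqζ] at hζt'
  rw [← mem_sectionComponents_iff s hqζ] at hζmem
  have h5 : connectedComponentIn (q ⁻¹' {η}) (t η) = connectedComponentIn (q ⁻¹' {η}) (s η) := by
    rw [connectedComponentIn_eq hζt', connectedComponentIn_eq hζmem]
  have h6 : t η ∈ connectedComponentIn (q ⁻¹' {η}) (s η) := by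
    rw [← h5]
    exact SecComp.mem_comp q t ht2 η
  rw [mem_sectionComponents_iff s (htq η), hpre] at h6
  have h7 : p (t η) ∈ MoreMor.sectionComponents f g := h6
  rwa [htp, hη] at h7

/-- The case of a morphism of finite presentation: `X⁰` and the locus of geometric reducedness of the fibres
are neighbourhoods. -/
theorem mem_nhds_of_fp [LocallyOfFinitePresentation f] [QuasiCompact f] [QuasiSeparated f] {x₀ : X}
    (hx₀ : x₀ ∈ MoreMor.sectionComponents f g)
    (hgi : GeomIrr f (f x₀) (MoreMor.sectionComponents f g))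
    (hd : ∀ z, z ⤳ f x₀ → FlatMor.fibreDimAt f (g (f x₀)) ≤ FlatMor.fibreDimAt f (g z))
    (hred : GeomAt PRed f x₀) :
    {x : X | x ∈ MoreMor.sectionComponents f g ∧ GeomAt PRed f x} ∈ nhds x₀ := by
  obtain ⟨Y', i, hi, hsurj, hYred⟩ := exists_red Y
  let P := pullback f i
  let p : P ⟶ X := pullback.fst f i
  let q : P ⟶ Y' := pullback.snd f i
  have hP : IsPullback p q f i := IsPullback.of_hasPullback f i
  have hcomm : ∀ w, f (p w) = i (q w) := fun w => by
    rw [← Scheme.Hom.comp_apply, ← Scheme.Hom.comp_apply, hP.w]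
  let s : Y' ⟶ P := pullback.lift (i ≫ g) (𝟙 _) (by
    rw [Category.assoc, hg, Category.comp_id, Category.id_comp])
  have hs1 : s ≫ p = i ≫ g := pullback.lift_fst _ _ _
  have hs2 : s ≫ q = 𝟙 _ := pullback.lift_snd _ _ _
  have hsp : ∀ t, p (s t) = g (i t) := fun t => by
    rw [← Scheme.Hom.comp_apply, hs1, Scheme.Hom.comp_apply]
  have hpre := Groth.Agent.S1324.result f g hg q p i hP s hs2 hs1
  have hpcl : Topology.IsClosedEmbedding p := p.isClosedEmbedding
  have hpsurj : Function.Surjective p := (inferInstance : Surjective p).surj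
  have hpsp : ∀ {w w' : P}, p w ⤳ p w' → w ⤳ w' := fun h =>
    hpcl.isInducing.specializes_iff.mp h
  obtain ⟨w₀, rfl⟩ := hpsurj x₀
  have hw₀ : w₀ ∈ MoreMor.sectionComponents q s := by
    rw [hpre]
    exact hx₀
  have hgi' : GeomIrr q (q w₀) (MoreMor.sectionComponents q s) := by
    rw [hpre]
    refine GeomIrr.baseChange hP _ ?_
    rw [← hcomm]
    exact hgi
  have hd' : ∀ z, z ⤳ q w₀ →
      FlatMor.fibreDimAt q (s (q w₀)) ≤ FlatMor.fibreDimAt q (s z) := by
    intro z hz
    rw [fibreDimAt_of_isPullback hP, fibreDimAt_of_isPullback hP, hsp, hsp, ← hcomm]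
    refine hd _ ?_
    rw [hcomm]
    exact hz.map i.continuous
  have hred' : GeomAt PRed q w₀ := (SecFlat.geomAt_iff hP w₀).mpr hred
  have hflat : (q.stalkMap w₀).hom.Flat :=
    SecFlatFP.flat_of_finitePresentation q s hs2 w₀ hw₀ hgi' hd' hred' inferInstance
  have hX0 : MoreMor.sectionComponents f g ∈ nhds (p w₀) := by
    rw [← mem_interior_iff_mem_nhds]
    refine Flat2D.ConstrGen.mem_interior_of_forall_specializes (S1326.result f g hg) ?_
    intro ξ hξ
    obtain ⟨w, rfl⟩ := hpsurj ξ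
    have h1 := mem_of_specializes q s hs2 (hpsp hξ) hw₀ hgi' hd' hflat hred'
    rw [hpre] at h1
    exact h1
  have hU : p '' {w : P | (q.stalkMap w).hom.Flat ∧ GeomAt PRed q w} ∈ nhds (p w₀) := by
    let e := hpcl.isEmbedding.toHomeomorphOfSurjective hpsurj
    have h1 : IsOpen (e '' {w : P | (q.stalkMap w).hom.Flat ∧ GeomAt PRed q w}) :=
      e.isOpenMap _ (isOpen_flat_geomAt q)
    exact h1.mem_nhds ⟨w₀, ⟨hflat, hred'⟩, rfl⟩
  filter_upwards [hX0, hU] with x hx1 hx2
  obtain ⟨w, hw, rfl⟩ := hx2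
  exact ⟨hx1, (SecFlat.geomAt_iff hP w).mp hw.2⟩

/-- The locally Noetherian case. -/
theorem mem_nhds_of_isLocallyNoetherian [IsLocallyNoetherian Y] [LocallyOfFiniteType f] {x₀ : X}
    (hirr : ∀ y, IsIrreducible (connectedComponentIn (f ⁻¹' {y}) (g y)))
    (hx₀ : x₀ ∈ MoreMor.sectionComponents f g)
    (hgi : GeomIrr f (f x₀) (MoreMor.sectionComponents f g))
    (hd : ∀ z, z ⤳ f x₀ → FlatMor.fibreDimAt f (g (f x₀)) ≤ FlatMor.fibreDimAt f (g z))
    (hred : GeomAt PRed f x₀) :
    {x : X | x ∈ MoreMor.sectionComponents f g ∧ GeomAt PRed f x} ∈ nhds x₀ := by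
  obtain ⟨U, V, j, i, f', g', hj, hi, h1, h2, h3, ⟨u, rfl⟩, -, h4, h5, h6⟩ :=
    SecRestr.exists_restrict f g hg x₀
  have hpre := SecRestr.sectionComponents_eq j i f f' h1 g g' h2 h3 hirr
  have hif' : ∀ w, i (f' w) = f (j w) := fun w => by
    rw [← Scheme.Hom.comp_apply, h1, Scheme.Hom.comp_apply]
  have hjg' : ∀ v, j (g' v) = g (i v) := fun v => by
    rw [← Scheme.Hom.comp_apply, h2, Scheme.Hom.comp_apply]
  have hdim : ∀ v, FlatMor.fibreDimAt f' (g' v) = FlatMor.fibreDimAt f (g (i v)) := fun v => by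
    rw [Dual.H316.FibDim.fibreDimAt_of_square f f' j i h1.symm, hjg']
  have hgeom : ∀ w, GeomAt PRed f' w ↔ GeomAt PRed f (j w) := fun w => by
    rw [← geomAt_comp_openImmersion_target f' i, h1, geomAt_comp_openImmersion isoClosed_pRed]
  have hmem : g (i (f' u)) ∈ MoreMor.sectionComponents f g := by
    rw [← mem_sectionComponents_iff g (SecComp.apply_apply f g hg _)]
    exact SecComp.mem_comp f g hg _
  have h7 := mem_nhds_of_fp f' g' h3 (x₀ := u) (by rw [hpre]; exact hx₀)
    (by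
      rw [hpre]
      refine SecRestr.geomIrr_preimage j i f f' h1 g g' h2 h3 hmem ?_
      rw [hif']
      exact hgi)
    (by
      intro z hz
      rw [hdim, hdim, hif']
      refine hd _ ?_
      rw [← hif']
      exact hz.map i.continuous)
    ((hgeom u).mpr hred)
  have h8 := j.isOpenEmbedding.isOpenMap.image_mem_nhds h7
  refine Filter.mem_of_superset h8 ?_
  rintro _ ⟨w, ⟨hw1, hw2⟩, rfl⟩
  rw [hpre] at hw1
  exact ⟨hw1, (hgeom w).mp hw2⟩

/-- Openness of the set of points of `X⁰` at which the fibre is geometrically reduced, and near the image of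
which the dimension of `X⁰_y` is constant. -/
theorem isOpen_setOf
    (hfin : (IsLocallyNoetherian Y ∧ LocallyOfFiniteType f) ∨
      (LocallyOfFinitePresentation f ∧ QuasiCompact f ∧ QuasiSeparated f))
    (hirr : ∀ (y : Y) (K : Type u) [Field K]
      [Algebra (IsLocalRing.ResidueField (Y.presheaf.stalk y)) K],
      IsIrreducible ((FBase.bcπ (f.fiberToSpecResidueField y) K ≫ f.fiberι y).base ⁻¹'
        connectedComponentIn (f.base ⁻¹' {y}) (g.base y))) :
    IsOpen {x : X | x ∈ MoreMor.sectionComponents f g ∧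
      (∃ V ∈ nhds (f x), ∀ z ∈ V,
        topologicalKrullDim ↥(connectedComponentIn (f ⁻¹' {z}) (g z)) =
          topologicalKrullDim ↥(connectedComponentIn (f ⁻¹' {f x}) (g (f x)))) ∧
      GeomAt PRed f x} := by
  have hirr' := SecConst.isIrreducible f g hirr
  rw [isOpen_iff_mem_nhds]
  rintro x₀ ⟨hx₀, ⟨V, hV, hc⟩, hred⟩
  have hN : {x : X | x ∈ MoreMor.sectionComponents f g ∧ GeomAt PRed f x} ∈ nhds x₀ := by
    rcases hfin with ⟨hY, hft⟩ | ⟨hfp, hqc, hqs⟩
    · exact mem_nhds_of_isLocallyNoetherian f g hg hirr' hx₀ (SecConst.geomIrr f g hirr _)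
        (SecConst.fibreDimAt_le_of_const f g hg hirr' hV hc) hred
    · exact mem_nhds_of_fp f g hg hx₀ (SecConst.geomIrr f g hirr _)
        (SecConst.fibreDimAt_le_of_const f g hg hirr' hV hc) hred
  obtain ⟨V', hV'V, hV'o, hV'⟩ := mem_nhds_iff.mp hV
  have hN2 : f ⁻¹' V' ∈ nhds x₀ := (hV'o.preimage f.continuous).mem_nhds hV'
  filter_upwards [hN, hN2] with x hx1 hx2
  refine ⟨hx1.1, ⟨V', hV'o.mem_nhds hx2, fun z hz => ?_⟩, hx1.2⟩
  rw [hc z (hV'V hz), hc (f x) (hV'V hx2)]

end K127.SecGen
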